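/-
Elements of prime order in the Mathieu groups: fixed points and centralisers.

* `eq_one_of_nine` : an element of M24 with nine fixed points is trivial
* `fixed_five`, `fixed_eleven`, `fixed_twentythree` : the numbers of fixed points
* `eq_one_of_cycle` : commuting elements fixing a moved point, with large cycles
* `cycle_five` : the octad of a five cycle and its stabiliser
* `card_le_moved_mul` : the bound on a centraliser from an orbit
* `card_normalizer_eq` : the normaliser of a subgroup of prime order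
-/
import Cfsg.Agent.Lib.GolayClasses.Three
import Cfsg.Agent.Lib.Golay.M22Aut
import Cfsg.Agent.Lib.Golay.M24Aut

set_option autoImplicit false
open scoped Pointwise
open Cfsg MulAction Cfsg.Agent.Golay

namespace Cfsg.Agent.SingleBlock

theorem eq_one_of_six {o : Finset GolayPt} (ho : o ∈ octads) {g : Equiv.Perm GolayPt} (hg : g ∈ M24)
    {s : Finset GolayPt} (hso : s ⊆ o) (hs : s.card = 6) (hfix : ∀ p ∈ s, g p = p)
    {e : GolayPt} (he : e ∉ o) (hge : g e = e) : g = 1 := by
  let e6 := (Finset.equivFinOfCardEq hs).symm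
  let x : Fin 7 → GolayPt := Fin.snoc (fun i => (e6 i : GolayPt)) e
  have hx : IsFrame x := by
    refine ⟨Fin.snoc_injective_of_injective (Subtype.val_injective.comp e6.injective) ?_,
      o, ho, fun i hi => ?_, ?_⟩
    · rintro ⟨i, hi⟩
      exact he (hi ▸ hso (e6 i).2)
    · have : i = Fin.castSucc (⟨i.val, hi⟩ : Fin 6) := rfl
      rw [this]
      simp only [x, Fin.snoc_castSucc]
      exact hso (e6 _).2
    · show x (Fin.last 6) ∉ _
      simp only [x, Fin.snoc_last]
      exact he
  refine eq_one_of_frame hg hx fun i => ?_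
  refine Fin.lastCases ?_ (fun j => ?_) i
  · simp only [x, Fin.snoc_last]
    exact hge
  · simp only [x, Fin.snoc_castSucc]
    exact hfix _ (e6 j).2

theorem eq_one_of_nine {g : Equiv.Perm GolayPt} (hg : g ∈ M24) {s : Finset GolayPt}
    (hs : 9 ≤ s.card) (hfix : ∀ p ∈ s, g p = p) : g = 1 := by
  by_contra hne
  obtain ⟨q, hq, hqd⟩ := Nat.exists_prime_and_dvd (show orderOf g ≠ 1 by simpa using hne)
  have : Fact q.Prime := ⟨hq⟩
  obtain ⟨k, hk⟩ := hqd
  have hho : orderOf (g ^ k) = q := by
    have hk0 : k ≠ 0 := fun h => (orderOf_pos g).ne' (by rw [hk, h, mul_zero])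
    rw [orderOf_pow' g hk0, hk, Nat.gcd_mul_left_left, Nat.mul_div_cancel _ (Nat.pos_of_ne_zero hk0)]
  have hhM : g ^ k ∈ M24 := pow_mem hg k
  have hle : 9 ≤ ((g ^ k).supportᶜ).card := hs.trans (Finset.card_le_card fun p hp => by
    simpa using Equiv.Perm.pow_apply_eq_self_of_apply_eq_self (hfix p hp) k)
  by_cases h3 : q = 3
  · subst h3
    have heq : (g ^ k).supportᶜ = Finset.univ.filter fun p => (g ^ k) p = p := by
      ext p; simp
    obtain ⟨t, -, ht | ht⟩ := GolayClasses.three_cases hhM hho
    · rw [heq, ← ht, GolayClasses.card_fixed_conj, GolayClasses.fixed_repA] at hle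
      omega
    · rw [heq, ← ht, GolayClasses.card_fixed_conj,
        Finset.filter_false_of_mem fun p _ => GolayClasses.fixed_repB p, Finset.card_empty] at hle
      omega
  · exact absurd (card_fixed_lt_nine h3 hhM hho) (by omega)

theorem fixed_lt_nine {g : Equiv.Perm GolayPt} (hg : g ∈ M24) (h1 : g ≠ 1) :
    (g.supportᶜ).card < 9 := by
  by_contra h
  exact h1 (eq_one_of_nine hg (s := g.supportᶜ) (by omega) fun p hp => by simpa using hp)

theorem fixed_five {z : Equiv.Perm GolayPt} (hz : z ∈ M24) (ho : orderOf z = 5) :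
    (z.supportᶜ).card = 4 := by
  have : Fact (Nat.Prime 5) := ⟨by norm_num⟩
  have h := natCard_fixed_of_prime_order ho
  have := fixed_lt_nine hz (fun e => by rw [e, orderOf_one] at ho; norm_num at ho)
  omega

theorem fixed_eleven {z : Equiv.Perm GolayPt} (hz : z ∈ M24) (ho : orderOf z = 11) :
    (z.supportᶜ).card = 2 := by
  have : Fact (Nat.Prime 11) := ⟨by norm_num⟩
  have h := natCard_fixed_of_prime_order ho
  have := fixed_lt_nine hz (fun e => by rw [e, orderOf_one] at ho; norm_num at ho)
  omega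

theorem fixed_twentythree {z : Equiv.Perm GolayPt} (hz : z ∈ M24) (ho : orderOf z = 23) :
    (z.supportᶜ).card = 1 := by
  have : Fact (Nat.Prime 23) := ⟨by norm_num⟩
  have h := natCard_fixed_of_prime_order ho
  have := fixed_lt_nine hz (fun e => by rw [e, orderOf_one] at ho; norm_num at ho)
  omega

variable {p : ℕ} [hp : Fact p.Prime]

/-- The cycle of a point. -/
def cyc (z : Equiv.Perm GolayPt) (n : ℕ) (a : GolayPt) : Finset GolayPt :=
  (Finset.range n).image fun i => (z ^ i) a

theorem cyc_facts {z : Equiv.Perm GolayPt} (ho : orderOf z = p) {a : GolayPt} (ha : z a ≠ a) :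
    (cyc z p a).card = p ∧ (∀ x ∈ cyc z p a, z x ∈ cyc z p a ∧ z x ≠ x) ∧
      ∀ g : Equiv.Perm GolayPt, g * z = z * g → g a = a → ∀ x ∈ cyc z p a, g x = x := by
  have hzp : z ^ p = 1 := by rw [← ho, pow_orderOf_eq_one]
  have hfix : ∀ k : ℕ, (z ^ k) a = a → p ∣ k := fun k hk => by
    have hper : Function.minimalPeriod z a ∣ k :=
      Function.IsPeriodicPt.minimalPeriod_dvd (by
        show (⇑z)^[k] a = a
        rwa [← Equiv.Perm.coe_pow])
    have hdvd : Function.minimalPeriod z a ∣ p :=
      Function.IsPeriodicPt.minimalPeriod_dvd (by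
        show (⇑z)^[p] a = a
        rw [← Equiv.Perm.coe_pow, hzp]; rfl)
    rcases hp.out.eq_one_or_self_of_dvd _ hdvd with h1 | h1
    · exact absurd (Function.minimalPeriod_eq_one_iff_isFixedPt.1 h1) ha
    · exact h1 ▸ hper
  refine ⟨?_, ?_, fun g hg hga x hx => ?_⟩
  · rw [cyc, Finset.card_image_of_injOn, Finset.card_range]
    intro i hi j hj hij
    simp only [Finset.coe_range, Set.mem_Iio] at hi hj
    wlog hle : i ≤ j generalizing i j
    · exact (this hij.symm hj hi (by omega)).symm
    simp only at hij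
    rw [← Nat.sub_add_cancel hle, pow_add, Equiv.Perm.mul_apply] at hij
    have h := hfix (j - i) ((z ^ i).injective (by
      rw [← Equiv.Perm.mul_apply, ← pow_mul_comm, Equiv.Perm.mul_apply, ← hij]))
    have := Nat.eq_zero_of_dvd_of_lt h (by omega)
    omega
  · intro x hx
    obtain ⟨i, hi, rfl⟩ := Finset.mem_image.1 hx
    rw [← Equiv.Perm.mul_apply, ← pow_succ']
    refine ⟨Finset.mem_image.2 ⟨(i + 1) % p, Finset.mem_range.2 (Nat.mod_lt _ hp.out.pos), ?_⟩,
      fun h => ?_⟩
    · rw [← pow_mod_orderOf z (i + 1), ho]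
    · rw [pow_succ, Equiv.Perm.mul_apply] at h
      exact ha ((z ^ i).injective h)
  · obtain ⟨i, -, rfl⟩ := Finset.mem_image.1 hx
    have h : g * z ^ i = z ^ i * g := (Commute.pow_right hg i).eq
    calc g ((z ^ i) a) = (g * z ^ i) a := rfl
      _ = (z ^ i) a := by rw [h, Equiv.Perm.mul_apply, hga]

theorem eq_one_of_cycle {z g : Equiv.Perm GolayPt} (ho : orderOf z = p) (hg : g ∈ M24)
    (hc : g * z = z * g) {a : GolayPt} (ha : z a ≠ a) (hga : g a = a) {F : Finset GolayPt}
    (hF : ∀ f ∈ F, z f = f ∧ g f = f) (h9 : 9 ≤ p + F.card) : g = 1 := by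
  obtain ⟨h1, h2, h3⟩ := cyc_facts ho ha
  refine eq_one_of_nine hg (s := cyc z p a ∪ F) ?_ fun x hx => ?_
  · rw [Finset.card_union_of_disjoint, h1]
    · exact h9
    · exact Finset.disjoint_left.2 fun x hx hxF => (h2 x hx).2 (hF x hxF).1
  · rcases Finset.mem_union.1 hx with h | h
    · exact h3 g hc hga x h
    · exact (hF x h).2

/-- The octad of a five cycle contains three of the four fixed points, the fourth one being `e`. -/
theorem cycle_five {z : Equiv.Perm GolayPt} (hz : z ∈ M24) (ho : orderOf z = 5) {a : GolayPt}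
    (ha : z a ≠ a) :
    ∃ (T : Finset GolayPt) (e : GolayPt), T.card = 3 ∧ e ∉ T ∧ z.supportᶜ = insert e T ∧
      ∀ g ∈ M24, g * z = z * g → g a = a →
        (∀ t ∈ T, g t ∈ T) ∧ g e = e ∧ ∀ t ∈ T, g t = t → g = 1 := by
  have : Fact (Nat.Prime 5) := ⟨by norm_num⟩
  obtain ⟨h1, h2, h3⟩ := cyc_facts ho ha
  obtain ⟨hO, hCO⟩ := octadOf_spec h1
  set C := cyc z 5 a with hC
  set O := octadOf C with hOdef
  have hinvar : ∀ g ∈ M24, (∀ x ∈ C, g x ∈ C) → ∀ y, g y ∈ O ↔ y ∈ O := fun g hg hgC y => by
    refine mem_iff_of_mem_octadStab ⟨hg, ?_⟩ y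
    refine (octadOf_eq h1 (smul_mem_octads hg hO) fun x hx => ?_).symm
    have himg : C.image g = C := Finset.eq_of_subset_of_card_le
      (Finset.image_subset_iff.2 hgC) (by rw [Finset.card_image_of_injective _ g.injective])
    rw [← himg] at hx
    obtain ⟨w, hw, rfl⟩ := Finset.mem_image.1 hx
    exact Finset.smul_mem_smul_finset (hCO hw)
  have hzO := hinvar z hz fun x hx => (h2 x hx).1
  set T := O \ C with hT
  have hTc : T.card = 3 := by
    rw [hT, Finset.card_sdiff_of_subset hCO, show O.card = 8 from hO.2, h1]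
  have hTfix : ∀ t ∈ T, z t = t := by
    have hm := card_mod_of_invariant (p := 5) (O := O) (by rw [← ho, pow_orderOf_eq_one]) hzO
    rw [show O.card = 8 from hO.2] at hm
    have hsub : (O.filter fun y => z y = y) ⊆ T := fun y hy => by
      rw [Finset.mem_filter] at hy
      exact Finset.mem_sdiff.2 ⟨hy.1, fun hyC => (h2 y hyC).2 hy.2⟩
    have hle := Finset.card_le_card hsub
    have heq : (O.filter fun y => z y = y) = T :=
      Finset.eq_of_subset_of_card_le hsub (by omega)
    exact fun t ht => (Finset.mem_filter.1 (heq.symm ▸ ht : t ∈ O.filter fun y => z y = y)).2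
  have hTF : T ⊆ z.supportᶜ := fun t ht => by simpa using hTfix t ht
  have hF := fixed_five hz ho
  obtain ⟨e, heF, heT⟩ := Finset.exists_mem_notMem_of_card_lt_card
    (show T.card < (z.supportᶜ).card by omega)
  have hins : z.supportᶜ = insert e T :=
    (Finset.eq_of_subset_of_card_le (Finset.insert_subset heF hTF)
      (by rw [Finset.card_insert_of_notMem heT, hTc, hF])).symm
  have heO : e ∉ O := fun h => heT (Finset.mem_sdiff.2
    ⟨h, fun heC => (h2 e heC).2 (by simpa using heF)⟩)
  refine ⟨T, e, hTc, heT, hins, fun g hg hc hga => ?_⟩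
  have hCfix := h3 g hc hga
  have hgO := hinvar g hg fun x hx => by rw [hCfix x hx]; exact hx
  have hmapT : ∀ t ∈ T, g t ∈ T := fun t ht => by
    rw [hT, Finset.mem_sdiff] at ht ⊢
    refine ⟨(hgO t).2 ht.1, fun hgt => ht.2 ?_⟩
    rwa [g.injective (hCfix _ hgt)] at hgt
  have hge : g e = e := by
    have hmem : g e ∈ z.supportᶜ := by
      have : z (g e) = g e := by
        rw [← Equiv.Perm.mul_apply, ← hc, Equiv.Perm.mul_apply, show z e = e by simpa using heF]
      simpa using this
    rw [hins, Finset.mem_insert] at hmem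
    refine hmem.resolve_right fun h => heO ?_
    exact (hgO e).1 (Finset.mem_sdiff.1 h).1
  refine ⟨hmapT, hge, fun t ht hgt => ?_⟩
  refine eq_one_of_six hO hg (s := insert t C) (Finset.insert_subset (Finset.mem_sdiff.1 ht).1 hCO)
    (by rw [Finset.card_insert_of_notMem (Finset.mem_sdiff.1 ht).2, h1]) (fun x hx => ?_) heO hge
  rcases Finset.mem_insert.1 hx with rfl | h
  · exact hgt
  · exact hCfix x h

omit hp in
/-- A centraliser permutes the moved points. -/
theorem card_le_moved_mul {G : Type*} [Group G] [Finite G] (φ : G →* Equiv.Perm GolayPt) (z : G)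
    {a : GolayPt} (ha : φ z a ≠ a) {k : ℕ}
    (hk : Set.ncard {g : G | g * z = z * g ∧ φ g a = a} ≤ k) :
    Nat.card (Subgroup.centralizer ({z} : Set G)) ≤ (φ z).support.card * k := by
  classical
  have := Fintype.ofFinite G
  rw [Nat.card_eq_fintype_card, ← Finset.card_univ]
  refine (Finset.card_le_mul_card_image (f := fun g : ↥(Subgroup.centralizer ({z} : Set G)) =>
    φ g a) Finset.univ k fun b hb => ?_).trans ?_
  · obtain ⟨g₀, -, rfl⟩ := Finset.mem_image.1 hb
    refine le_trans ?_ hk
    rw [← Set.ncard_coe_finset]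
    refine Set.ncard_le_ncard_of_injOn (fun g => ((g₀⁻¹ * g : ↥(Subgroup.centralizer ({z} : Set G))) : G))
      (fun g hg => ?_) (fun g _ h _ e => mul_left_cancel (Subtype.ext e)) (Set.toFinite _)
    simp only [Finset.coe_filter, Finset.mem_univ, true_and, Set.mem_ofPred_eq] at hg ⊢
    refine ⟨Subgroup.mem_centralizer_singleton_iff.1 (g₀⁻¹ * g).2, ?_⟩
    rw [Subgroup.coe_mul, map_mul, Equiv.Perm.mul_apply, hg, ← Equiv.Perm.mul_apply, ← map_mul,
      Subgroup.coe_inv, inv_mul_cancel, map_one, Equiv.Perm.one_apply]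
  · rw [mul_comm]
    refine Nat.mul_le_mul_right _ (Finset.card_le_card fun b hb => ?_)
    obtain ⟨g, -, rfl⟩ := Finset.mem_image.1 hb
    rw [Equiv.Perm.mem_support]
    intro h
    have hg := Subgroup.mem_centralizer_singleton_iff.1 g.2
    rw [← Equiv.Perm.mul_apply, ← map_mul, ← hg, map_mul, Equiv.Perm.mul_apply] at h
    exact ha ((φ g).injective h)

theorem centralizer_zpowers {G : Type*} [Group G] (z : G) :
    Subgroup.centralizer (Subgroup.zpowers z : Set G) = Subgroup.centralizer ({z} : Set G) := by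
  rw [Subgroup.zpowers_eq_closure, Subgroup.centralizer_closure]

/-- The normaliser of a subgroup of prime order. -/
theorem card_normalizer_eq {G : Type*} [Group G] [Finite G] {z : G} (hz : orderOf z = p) :
    ∃ c r, Nat.card (Subgroup.centralizer ({z} : Set G)) = p * c ∧ r ∣ p - 1 ∧
      Nat.card (Subgroup.normalizer (Subgroup.zpowers z : Set G)) = p * c * r := by
  set P := Subgroup.zpowers z with hP
  have hPc : Nat.card P = p := by rw [hP, Nat.card_zpowers, hz]
  have hPC : P ≤ Subgroup.centralizer ({z} : Set G) := Subgroup.zpowers_le.2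
    (Subgroup.mem_centralizer_singleton_iff.2 rfl)
  obtain ⟨c, hc⟩ : p ∣ Nat.card (Subgroup.centralizer ({z} : Set G)) :=
    hPc ▸ Subgroup.card_dvd_of_le hPC
  have hker : P.normalizerMonoidHom.ker =
      (Subgroup.centralizer ({z} : Set G)).subgroupOf (Subgroup.normalizer (P : Set G)) := by
    rw [Subgroup.normalizerMonoidHom_ker, hP, centralizer_zpowers]
  have hCN : Subgroup.centralizer ({z} : Set G) ≤ Subgroup.normalizer (P : Set G) := by
    rw [← centralizer_zpowers z, ← hP]
    exact Subgroup.centralizer_le_normalizer _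
  have h := P.normalizerMonoidHom.ker.card_mul_index
  rw [Subgroup.index_ker, hker, Nat.card_congr (Subgroup.subgroupOfEquivOfLe hCN).toEquiv, hc] at h
  haveI : IsCyclic P := isCyclic_of_prime_card hPc
  have hdvd := Subgroup.card_subgroup_dvd_card P.normalizerMonoidHom.range
  rw [IsCyclic.card_mulAut, hPc, Nat.totient_prime hp.out] at hdvd
  exact ⟨c, _, hc, hdvd, h.symm⟩

end Cfsg.Agent.SingleBlock
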