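/-
Sums of squares over elements of prime order through their Sylow subgroups.

* `sylow_count` : the number of Sylow subgroups and the normaliser
* `le_sum_filter` : the lower bound for `∑ |χ g| ^ 2` over the elements of order `p`
* `sum_filter_of_minimal` : the extremal case
* `isIntegral_div_of_class` : divisibility of a value from the class size
* `card_centralizer_of_orderOf` : centralisers of elements of order `p` when `p ^ 2 ∤ |G|`
-/
import Cfsg.Agent.Lib.SingleBlock.PrimeBound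
import Cfsg.Agent.Lib.SingleBlock.Geometry
import Cfsg.Agent.Lib.Char.PRegular

set_option autoImplicit false

open Cfsg
open scoped Pointwise

namespace Cfsg.Agent.SingleBlock

variable {G : Type*} [Group G] [Finite G] {p : ℕ} [hp : Fact p.Prime]

omit [Finite G] in
theorem mem_zpowers_gen (P : Subgroup G) (hP : Nat.card P = p) {z : G} (hz : z ∈ P)
    (ho : orderOf z = p) [Finite P] : Subgroup.zpowers z = P :=
  Subgroup.eq_of_le_of_card_ge (Subgroup.zpowers_le.2 hz) (by rw [hP, Nat.card_zpowers, ho])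

theorem card_sylow_eq (h1 : p ∣ Nat.card G) (h2 : ¬ p ^ 2 ∣ Nat.card G) (P : Sylow p G) :
    Nat.card (P : Subgroup G) = p := by
  have h0 : Nat.card G ≠ 0 := Nat.card_pos.ne'
  have ha := (hp.out.dvd_iff_one_le_factorization h0).1 h1
  have hb : (Nat.card G).factorization p = 1 := by
    by_contra hne
    exact h2 ((hp.out.pow_dvd_iff_le_factorization h0).2 (by omega))
  rw [P.card_eq_multiplicity, hb, pow_one]

theorem exists_sylow_zpowers (h1 : p ∣ Nat.card G) (h2 : ¬ p ^ 2 ∣ Nat.card G) {z : G}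
    (hz : orderOf z = p) : ∃ P : Sylow p G, (P : Subgroup G) = Subgroup.zpowers z := by
  obtain ⟨P, hP⟩ := IsPGroup.exists_le_sylow
    (IsPGroup.of_card (p := p) (n := 1) (G := Subgroup.zpowers z) (by rw [Nat.card_zpowers, hz, pow_one]))
  exact ⟨P, (mem_zpowers_gen _ (card_sylow_eq h1 h2 P) (hP (Subgroup.mem_zpowers z)) hz).symm⟩

theorem sylow_count (h1 : p ∣ Nat.card G) (h2 : ¬ p ^ 2 ∣ Nat.card G) {z : G} (hz : orderOf z = p) :
    Nat.card (Sylow p G) * Nat.card (Subgroup.normalizer (Subgroup.zpowers z : Set G)) = Nat.card G ∧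
      Nat.card (Sylow p G) % p = 1 := by
  obtain ⟨P, hP⟩ := exists_sylow_zpowers h1 h2 hz
  refine ⟨?_, ?_⟩
  · rw [P.card_eq_index_normalizer,
      show Subgroup.normalizer (P : Set G) = Subgroup.normalizer (Subgroup.zpowers z : Set G) by
        rw [← hP]; rfl, Subgroup.index_mul_card]
  · have h := card_sylow_modEq_one p G
    rwa [Nat.ModEq, Nat.one_mod_eq_one.2 hp.out.ne_one] at h

theorem card_centralizer_of_orderOf (h1 : p ∣ Nat.card G) (h2 : ¬ p ^ 2 ∣ Nat.card G) {z w : G}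
    (hz : orderOf z = p) (hw : orderOf w = p) :
    Nat.card (Subgroup.centralizer ({w} : Set G)) = Nat.card (Subgroup.centralizer ({z} : Set G)) := by
  obtain ⟨P, hP⟩ := exists_sylow_zpowers h1 h2 hz
  obtain ⟨Q, hQ⟩ := exists_sylow_zpowers h1 h2 hw
  obtain ⟨g, hg⟩ := MulAction.exists_smul_eq G P Q
  have hmem : g * z * g⁻¹ ∈ Subgroup.zpowers w := by
    rw [← hQ, ← hg, Sylow.coe_subgroup_smul]
    have hzP : z ∈ (P : Subgroup G) := hP ▸ Subgroup.mem_zpowers z
    simpa [MulAut.conj_apply, MulAut.smul_def] using Subgroup.smul_mem_pointwise_smul z (MulAut.conj g) _ hzP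
  have hgen : Subgroup.zpowers (g * z * g⁻¹) = Subgroup.zpowers w := by
    refine Subgroup.eq_of_le_of_card_ge (Subgroup.zpowers_le.2 hmem) ?_
    rw [Nat.card_zpowers, Nat.card_zpowers, hw]
    exact (orderOf_injective (MulAut.conj g).toMonoidHom (MulAut.conj g).injective z).symm.le.trans'
      hz.ge
  rw [← centralizer_zpowers w, ← hgen, centralizer_zpowers]
  refine Nat.card_congr
    { toFun := fun x => ⟨g⁻¹ * x * g, ?_⟩
      invFun := fun x => ⟨g * x * g⁻¹, ?_⟩
      left_inv := fun x => Subtype.ext (by simp [mul_assoc])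
      right_inv := fun x => Subtype.ext (by simp [mul_assoc]) }
  · have h := Subgroup.mem_centralizer_singleton_iff.1 x.2
    refine Subgroup.mem_centralizer_singleton_iff.2 ?_
    calc g⁻¹ * x * g * z = g⁻¹ * ((x : G) * (g * z * g⁻¹)) * g := by group
      _ = g⁻¹ * ((g * z * g⁻¹) * x) * g := by rw [h]
      _ = z * (g⁻¹ * x * g) := by group
  · have h := Subgroup.mem_centralizer_singleton_iff.1 x.2
    refine Subgroup.mem_centralizer_singleton_iff.2 ?_
    calc g * x * g⁻¹ * (g * z * g⁻¹) = g * ((x : G) * z) * g⁻¹ := by group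
      _ = g * (z * x) * g⁻¹ := by rw [h]
      _ = g * z * g⁻¹ * (g * x * g⁻¹) := by group

theorem le_sum_filter [Fintype G] (h1 : p ∣ Nat.card G) (h2 : ¬ p ^ 2 ∣ Nat.card G) {χ : G → ℂ}
    (hχ : IsCharacter G χ) {d : ℕ} (hd : χ 1 = d) {a r : ℕ} (hr : r ≤ p)
    (ha : a ≠ 0) (hcop : a.Coprime p) (hdiv : ∀ g : G, orderOf g = p → IsIntegral ℤ (χ g / a))
    (hmod : d % p = a * r % p) :
    ((Nat.card (Sylow p G) * (a ^ 2 * (r * (p - r))) : ℕ) : ℝ) ≤
      ∑ g ∈ Finset.univ.filter (fun g : G => orderOf g = p), ‖χ g‖ ^ 2 := by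
  classical
  have := Fintype.ofFinite (Sylow p G)
  rw [sum_orderOf_eq h1 h2, Nat.card_eq_fintype_card, Nat.cast_mul]
  rw [← nsmul_eq_mul, ← Finset.card_univ, ← Finset.sum_const]
  refine Finset.sum_le_sum fun P _ => ?_
  have hP := card_sylow_eq h1 h2 P
  have h := le_sum_sq (P : Subgroup G) hP hχ hd hr ha hcop (fun x hx => hdiv x ?_) hmod
  · rw [← Finset.add_sum_erase _ _ (Finset.mem_univ (1 : ↥(P : Subgroup G))), OneMemClass.coe_one,
      hd, Complex.norm_natCast] at h
    linarith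
  · have hdvd := orderOf_dvd_natCard x
    rw [hP] at hdvd
    rw [Subgroup.orderOf_coe]
    exact (hp.out.eq_one_or_self_of_dvd _ hdvd).resolve_left fun e => hx (orderOf_eq_one_iff.1 e)

theorem sum_filter_of_minimal [Fintype G] (h1 : p ∣ Nat.card G) (h2 : ¬ p ^ 2 ∣ Nat.card G)
    {χ : G → ℂ} (hχ : IsCharacter G χ) {d q : ℕ} (hd : χ 1 = d) (hq : d + 1 = p * (q + 1))
    (hmin : (∑ g ∈ Finset.univ.filter (fun g : G => orderOf g = p), ‖χ g‖ ^ 2) ≤
      ((Nat.card (Sylow p G) * (p - 1) : ℕ) : ℝ)) :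
    ∃ s ∈ [q, q + 1], (∑ g ∈ Finset.univ.filter (fun g : G => orderOf g = p), χ g) =
      (Nat.card (Sylow p G) : ℂ) * ((p * s : ℕ) - (d : ℂ)) := by
  classical
  have := Fintype.ofFinite (Sylow p G)
  have hpos := hp.out.one_lt
  have hmod : d % p = 1 * (p - 1) % p := by
    rw [one_mul, show d = p * q + (p - 1) by rw [mul_add, mul_one] at hq; omega, Nat.mul_add_mod]
  have hper : ∀ P : Sylow p G, ((p - 1 : ℕ) : ℝ) ≤
      ∑ x ∈ Finset.univ.erase (1 : ↥(P : Subgroup G)), ‖χ x‖ ^ 2 := by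
    intro P
    have h := le_sum_sq (P : Subgroup G) (card_sylow_eq h1 h2 P) hχ hd (r := p - 1) (by omega)
      one_ne_zero (Nat.coprime_one_left p) (fun x _ => by simpa using Char.IsCharacter.isIntegral hχ (x : G)) hmod
    rw [← Finset.add_sum_erase _ _ (Finset.mem_univ (1 : ↥(P : Subgroup G))), OneMemClass.coe_one,
      hd, Complex.norm_natCast, show p - (p - 1) = 1 by omega, one_pow, one_mul, mul_one] at h
    linarith
  rw [sum_orderOf_eq h1 h2, Nat.card_eq_fintype_card, Nat.cast_mul, ← nsmul_eq_mul,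
    ← Finset.card_univ, ← Finset.sum_const] at hmin
  have heq := (Finset.sum_eq_sum_iff_of_le fun P _ => hper P).1
    (le_antisymm (Finset.sum_le_sum fun P _ => hper P) hmin)
  obtain ⟨P⟩ : Nonempty (Sylow p G) := inferInstance
  have hS := sum_eq_of_minimal (P : Subgroup G) (card_sylow_eq h1 h2 P) hχ hd hq (by
    rw [← Finset.add_sum_erase _ _ (Finset.mem_univ (1 : ↥(P : Subgroup G))), OneMemClass.coe_one,
      hd, Complex.norm_natCast, ← heq P (Finset.mem_univ _)])
  have hsame : ∀ Q : Sylow p G, (∑ x : ↥(Q : Subgroup G), χ x) = ∑ x : ↥(P : Subgroup G), χ x := by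
    intro Q
    obtain ⟨g, rfl⟩ := MulAction.exists_smul_eq G P Q
    refine (Fintype.sum_equiv (Subgroup.equivSMul (MulAut.conj g) (P : Subgroup G)).toEquiv _ _
      fun x => ?_).symm
    exact ((Char.IsCharacter.isClassFunction hχ) (x : G) g).symm
  obtain ⟨s, hs, hsum⟩ : ∃ s ∈ [q, q + 1], (∑ x : ↥(P : Subgroup G), χ x) = ((p * s : ℕ) : ℂ) := by
    rcases hS with h | h
    · exact ⟨q, by simp, h⟩
    · exact ⟨q + 1, by simp, h⟩
  refine ⟨s, hs, ?_⟩
  rw [sum_orderOf_eq h1 h2, Nat.card_eq_fintype_card, ← nsmul_eq_mul, ← Finset.card_univ,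
    ← Finset.sum_const]
  refine Finset.sum_congr rfl fun Q _ => ?_
  rw [Finset.sum_erase_eq_sub (Finset.mem_univ _), hsame, hsum, OneMemClass.coe_one, hd]

theorem isIntegral_div_of_class {χ : G → ℂ} (hχ : IsIrrCharacter G χ) {g : G} {d e o a k : ℕ}
    (hd : χ 1 = d) (hdk : d = e * a * k) (hidx : (Subgroup.centralizer ({g} : Set G)).index ∣ e * o)
    (he : e * a * k ≠ 0) (hcop : o.Coprime a) : IsIntegral ℤ (χ g / a) := by
  have h := Char.IsIrrCharacter.isIntegral_classSize_mul_div hχ g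
  obtain ⟨w, hw⟩ := hidx
  obtain ⟨⟨he0, ha0⟩, hk0⟩ : (e ≠ 0 ∧ a ≠ 0) ∧ k ≠ 0 := by simpa using he
  rw [hd, hdk] at h
  set i := (Subgroup.centralizer ({g} : Set G)).index
  have h2 : IsIntegral ℤ ((o : ℂ) * (χ g / a)) := by
    have e1 : (o : ℂ) * (χ g / a) =
        ((w * k : ℕ) : ℂ) * ((i : ℂ) * χ g / ((e * a * k : ℕ) : ℂ)) := by
      have : (e : ℂ) ≠ 0 := Nat.cast_ne_zero.2 he0
      have : (a : ℂ) ≠ 0 := Nat.cast_ne_zero.2 ha0
      have : (k : ℂ) ≠ 0 := Nat.cast_ne_zero.2 hk0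
      have hw' : (e : ℂ) * o = i * w := by exact_mod_cast hw
      push_cast
      field_simp
      linear_combination (χ g) * hw'
    rw [e1]
    exact (isIntegral_algebraMap (R := ℤ) (A := ℂ) (x := ((w * k : ℕ) : ℤ))).mul h
  refine Char.isIntegral_of_coprime_mul hcop h2 ?_
  rw [mul_div_cancel₀ _ (Nat.cast_ne_zero.2 ha0)]
  exact Char.IsCharacter.isIntegral (Char.IsIrrCharacter.isCharacter hχ) g

end Cfsg.Agent.SingleBlock
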