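/-
A criterion for a group to have a single 2-block.

* `sameBlock_of_constrained` : a self-centralising normal `p`-subgroup forces a single block
* `sameBlock_of_local` : single blocks in the centralisers of involutions and no character of
  defect zero force a single 2-block
-/
import Cfsg.Agent.Lib.Blocks.LocalBlocks

set_option autoImplicit false

open Cfsg

namespace Cfsg.Agent.SingleBlock

open Cfsg.Agent.Blocks

theorem sameBlock_of_constrained {H : Type*} [Group H] [Finite H] {p : ℕ} [Fact p.Prime]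
    {M : Ideal AlgInt} (hM : IsPModular p M) (Q : Subgroup H) [Q.Normal] (hQ : IsPGroup p Q)
    (hC : Subgroup.centralizer (Q : Set H) ≤ Q) (χ ψ : IrrCharacter H) :
    SameBlock M (χ : H → ℂ) (ψ : H → ℂ) := by
  intro g
  by_cases h : ∃ x : H, IsConj g x ∧ x ∈ Subgroup.centralizer (Q : Set H)
  · obtain ⟨x, hgx, hx⟩ := h
    obtain ⟨c, rfl⟩ := isConj_iff.mp hgx
    have hg : g ∈ Q := by
      simpa [mul_assoc] using Subgroup.Normal.conj_mem ‹Q.Normal› _ (hC hx) c⁻¹
    exact memI_sub_trans hM (centralChar_congr_of_mem hM hQ hg χ)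
      (memI_sub_comm (centralChar_congr_of_mem hM hQ hg ψ))
  · push Not at h
    exact memI_sub hM (memI_centralChar_of_forall_notMem hM hQ h χ)
      (memI_centralChar_of_forall_notMem hM hQ h ψ)

variable {G : Type*} [Group G] [Finite G] {p : ℕ} {M : Ideal AlgInt}

theorem sameBlock_of_local (hM : IsPModular p M)
    (hloc : ∀ x : G, orderOf x = p → ∀ χ ψ : IrrCharacter (Subgroup.centralizer ({x} : Set G)),
      SameBlock M (χ : Subgroup.centralizer ({x} : Set G) → ℂ) (ψ : _ → ℂ))
    (hdef : ∀ χ : IrrCharacter G,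
      (charDegree (χ : G → ℂ)).factorization p < (Nat.card G).factorization p)
    (χ ψ : IrrCharacter G) : SameBlock M (χ : G → ℂ) (ψ : G → ℂ) := by
  have : Fact p.Prime := ⟨hM.1⟩
  suffices key : ∀ χ : IrrCharacter G,
      SameBlock M (χ : G → ℂ) (BrauerPairs.oneIrr G : G → ℂ) from
    fun g => memI_sub_trans hM (key χ g) (memI_sub_comm (key ψ g))
  intro χ
  have hB := isPBlock_blockOf hM χ
  set B := blockOf M (χ : G → ℂ)
  obtain ⟨D, hD⟩ := exists_isDefectGroup hM hB
  have hcard := card_defectGroup hM hB hD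
  have hpos : 0 < blockDefect p B := by
    have h1 : sInf ((fun χ : IrrCharacter G => (charDegree (χ : G → ℂ)).factorization p) '' B) ≤
        (charDegree (χ : G → ℂ)).factorization p :=
      Nat.sInf_le ⟨χ, mem_blockOf_self hM χ, rfl⟩
    have h2 := hdef χ
    rw [blockDefect]
    omega
  obtain ⟨y, ⟨-, hy, -⟩, S, rfl⟩ := hD
  obtain ⟨x, hx⟩ := exists_prime_orderOf_dvd_card' p
    (G := ↥((S : Subgroup (Subgroup.centralizer ({y} : Set G))).map
      (Subgroup.centralizer ({y} : Set G)).subtype))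
    (by rw [hcard]; exact dvd_pow_self p hpos.ne')
  have hxy : Commute (x : G) y := by
    obtain ⟨c, -, hc⟩ := x.2
    rw [← hc]
    exact (Subgroup.mem_centralizer_singleton_iff.1 c.2 : _)
  rw [← Subgroup.orderOf_coe] at hx
  set H := Subgroup.centralizer ({(x : G)} : Set G)
  have hH : ∀ g, g ∈ H ↔ Commute (x : G) g := fun g => by
    rw [Subgroup.mem_centralizer_singleton_iff]
    exact ⟨fun h => h.symm, fun h => h.symm⟩
  obtain ⟨b, hb, -⟩ := exists_induced_coeff_not_memI hM ⟨1, by rw [hx, pow_one]⟩ hH hB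
    (y := ⟨y, (hH y).2 hxy⟩) hy
  obtain ⟨ξ₀, hbξ⟩ := hb.1
  have hprin : b = principalBlock M H := by
    rw [hbξ]
    ext η
    exact ⟨fun _ => hloc _ hx (BrauerPairs.oneIrr H) η, fun _ => hloc _ hx ξ₀ η⟩
  have hone := (induced_principal_iff hM ⟨B, hb⟩).2 hprin
  obtain ⟨ξ, hξ⟩ := isPBlock_nonempty hM hb.1
  intro g
  exact memI_sub_trans hM (memI_sub_comm (hb.2.2 ξ hξ χ (mem_blockOf_self hM χ) g))
    (hone.2.2 ξ hξ (BrauerPairs.oneIrr G) (sameBlock_refl hM _) g)

end Cfsg.Agent.SingleBlock
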