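/-
Shared steps for the single-block statements of M22 and M24.

* `sum_orders_le`, `sum_norm_sq`, `sum_irr_eq_zero`
* `mem_octadFix_of_commute`, `sameBlock_octad` : centralisers of involutions fixing an octad
-/
import Cfsg.Agent.Lib.SingleBlock.Criterion
import Cfsg.Agent.Lib.SingleBlock.Counting
import Cfsg.Agent.Lib.GolayInvol.Basic
import Cfsg.Agent.Lib.Golay.OctadStab

set_option autoImplicit false

open Cfsg Cfsg.Agent.Golay
open scoped Pointwise ComplexConjugate

namespace Cfsg.Agent.SingleBlock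

variable {G : Type*} [Group G] [Fintype G]

theorem sum_orders_le {f : G → ℝ} (hf : ∀ g, 0 ≤ f g) (s : Finset ℕ) :
    ∑ n ∈ s, ∑ g ∈ Finset.univ.filter (fun g : G => orderOf g = n), f g ≤ ∑ g, f g := by
  classical
  rw [← Finset.sum_biUnion]
  · exact Finset.sum_le_univ_sum_of_nonneg hf
  · intro a _ b _ hab
    simp only [Function.onFun]
    exact Finset.disjoint_filter.2 fun x _ h h' => hab (h.symm.trans h')

theorem sum_norm_sq {χ : G → ℂ} (hχ : IsIrrCharacter G χ) :
    ∑ g, ‖χ g‖ ^ 2 = (Nat.card G : ℝ) := by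
  have h := Char.classInner_irr_self hχ
  rw [Char.classInner_self_eq, Complex.ofReal_eq_one] at h
  have h0 : (Nat.card G : ℝ) ≠ 0 := by exact_mod_cast Nat.card_pos.ne'
  field_simp at h
  linarith

theorem sum_order_one {χ : G → ℂ} {d : ℕ} (hd : χ 1 = d) :
    ∑ g ∈ Finset.univ.filter (fun g : G => orderOf g = 1), ‖χ g‖ ^ 2 = (d : ℝ) ^ 2 := by
  have : Finset.univ.filter (fun g : G => orderOf g = 1) = {1} := by ext g; simp
  rw [this, Finset.sum_singleton, hd, Complex.norm_natCast]

theorem sum_irr_eq_zero {χ : G → ℂ} (hχ : IsIrrCharacter G χ) (h1 : χ ≠ 1) : ∑ g, χ g = 0 := by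
  have h := Char.card_mul_classInner χ 1
  rw [Char.classInner_irr_of_ne hχ Char.isIrrCharacter_one h1, mul_zero] at h
  simpa using h.symm

omit [Fintype G] in
theorem factorization_lt {n d p e : ℕ} (hp : p.Prime) (hd : d ≠ 0) (he : n.factorization p = e)
    (h : ¬ p ^ e ∣ d) : d.factorization p < n.factorization p := by
  rw [he]
  by_contra hle
  exact h ((hp.pow_dvd_iff_le_factorization hd).2 (by omega))

/-! ### Involutions fixing an octad -/

theorem mem_octadFix_of_commute {o : Finset GolayPt} (ho : o ∈ octads) {g : Equiv.Perm GolayPt}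
    (hg : g ∈ M24) (hgo : g • o = o) (hc : ∀ e ∈ octadFix o, e * g = g * e) : g ∈ octadFix o := by
  obtain ⟨q, hq⟩ : ∃ q, q ∉ o := by
    by_contra! h
    have h8 : o.card = 8 := ho.2
    rw [Finset.eq_univ_of_forall h, Finset.card_univ] at h8
    simp at h8
  have hgq : g q ∉ o := fun h => hq ((mem_iff_of_mem_octadStab ⟨hg, hgo⟩ q).1 h)
  obtain ⟨e, he, heq⟩ := exists_octad_point ho hq hgq
  have hcomm : ∀ u ∈ octadFix o, u * e = e * u := fun u hu => by
    have h := mul_self_octadFix ho (mul_mem hu he)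
    have hu2 := mul_self_octadFix ho hu
    have he2 := mul_self_octadFix ho he
    rw [show u * e = (u * e)⁻¹ from (inv_eq_of_mul_eq_one_right h).symm, mul_inv_rev,
      inv_eq_of_mul_eq_one_right hu2, inv_eq_of_mul_eq_one_right he2]
  have hh : e⁻¹ * g = 1 := by
    refine eq_one_of_nine (mul_mem (inv_mem (mem_octadFix.1 he).1) hg) (s := oᶜ) ?_ fun q' hq' => ?_
    · rw [Finset.card_compl, show o.card = 8 from ho.2]
      simp
    · obtain ⟨u, hu, huq⟩ := exists_octad_point ho hq (Finset.mem_compl.1 hq')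
      have hcu : (e⁻¹ * g) * u = u * (e⁻¹ * g) := by
        have h1 : Commute u e := hcomm u hu
        have h2 : Commute u g := hc u hu
        exact (h1.inv_right.mul_right h2).eq.symm
      rw [← huq, ← Equiv.Perm.mul_apply, hcu, Equiv.Perm.mul_apply, Equiv.Perm.mul_apply,
        Equiv.Perm.inv_eq_iff_eq.2 heq.symm]
  rw [← inv_mul_eq_one.1 hh]
  exact he

/-- The centraliser of an involution fixing an octad, in a subgroup of M24 containing the pointwise
stabiliser of the octad. -/
theorem sameBlock_octad {K : Subgroup (Equiv.Perm GolayPt)} (hK : K ≤ M24) {o : Finset GolayPt}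
    (ho : o ∈ octads) (hoK : octadFix o ≤ K) {x : ↥K} (hx : (x : Equiv.Perm GolayPt) ∈ octadFix o)
    (hfix : ∀ q, (x : Equiv.Perm GolayPt) q = q ↔ q ∈ o)
    {M : Ideal AlgInt} (hM : IsPModular 2 M) :
    ∀ χ ψ : IrrCharacter (Subgroup.centralizer ({x} : Set K)),
    SameBlock M (χ : Subgroup.centralizer ({x} : Set K) → ℂ) (ψ : _ → ℂ) := by
  haveI : Fact (Nat.Prime 2) := ⟨Nat.prime_two⟩
  set C := Subgroup.centralizer ({x} : Set K)
  intro χ ψ
  have hstab : ∀ c : C, ((c : K) : Equiv.Perm GolayPt) • o = o := fun c => by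
    have hc : ((c : K) : Equiv.Perm GolayPt) * x = (x : Equiv.Perm GolayPt) * (c : K) :=
      congrArg Subtype.val (Subgroup.mem_centralizer_singleton_iff.1 c.2)
    rw [smul_eq_image]
    refine Finset.eq_of_subset_of_card_le (Finset.image_subset_iff.2 fun q hq => ?_)
      (by rw [Finset.card_image_of_injective _ (Equiv.injective _)])
    refine (hfix _).1 ?_
    rw [← Equiv.Perm.mul_apply, ← hc, Equiv.Perm.mul_apply, (hfix q).2 hq]
  let Q : Subgroup C := (octadFix o).comap (K.subtype.comp C.subtype)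
  haveI : Q.Normal := ⟨fun q hq c => by
    have hq' : ((q : K) : Equiv.Perm GolayPt) ∈ octadFix o := hq
    show ((c : K) : Equiv.Perm GolayPt) * (q : K) * ((c : K) : Equiv.Perm GolayPt)⁻¹ ∈ octadFix o
    refine mem_octadFix.2 ⟨mul_mem (mul_mem (hK (c : K).2) (hK (q : K).2)) (inv_mem (hK (c : K).2)),
      fun p hp => ?_⟩
    have hp' : ((c : K) : Equiv.Perm GolayPt)⁻¹ p ∈ o :=
      (mem_iff_of_mem_octadStab (inv_mem (s := octadStab o) ⟨hK (c : K).2, hstab c⟩) p).2 hp
    rw [Equiv.Perm.mul_apply, Equiv.Perm.mul_apply, (mem_octadFix.1 hq').2 _ hp',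
      Equiv.Perm.coe_inv, Equiv.apply_symm_apply]⟩
  have hQ : IsPGroup 2 Q := fun q => ⟨1, by
    rw [pow_one, sq]
    refine Subtype.ext (Subtype.ext (Subtype.ext ?_))
    exact mul_self_octadFix ho q.2⟩
  refine sameBlock_of_constrained hM Q hQ (fun c hc => ?_) χ ψ
  refine mem_octadFix_of_commute ho (hK (c : K).2) (hstab c) fun e he => ?_
  have heC : (⟨e, hoK he⟩ : K) ∈ C := by
    refine Subgroup.mem_centralizer_singleton_iff.2 (Subtype.ext ?_)
    show e * (x : Equiv.Perm GolayPt) = (x : Equiv.Perm GolayPt) * e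
    have h := mul_self_octadFix ho (mul_mem he hx)
    rw [show e * (x : Equiv.Perm GolayPt) = (e * x)⁻¹ from (inv_eq_of_mul_eq_one_right h).symm,
      mul_inv_rev, inv_eq_of_mul_eq_one_right (mul_self_octadFix ho he),
      inv_eq_of_mul_eq_one_right (mul_self_octadFix ho hx)]
  exact congrArg (fun u : C => ((u : K) : Equiv.Perm GolayPt))
    (Subgroup.mem_centralizer_iff.1 hc ⟨⟨e, hoK he⟩, heC⟩ he)

/-- An involution of M24 with a fixed point fixes exactly an octad. -/
theorem exists_octad_fixed {g : Equiv.Perm GolayPt} (hg : g ∈ M24) (h2 : orderOf g = 2)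
    {p : GolayPt} (hp : g p = p) :
    ∃ o ∈ octads, g ∈ octadFix o ∧ ∀ q, g q = q ↔ q ∈ o := by
  obtain ⟨k, hk, h | h⟩ := GolayInvol.involution_cases hg h2
  · refine ⟨_, smul_mem_octads hk GolayInvol.fixSet_repFix, ?_⟩
    have hiff : ∀ q, g q = q ↔ q ∈ k • (Finset.univ.filter fun p => GolayInvol.repFix p = p) := by
      intro q
      rw [← Finset.inv_smul_mem_iff, Finset.mem_filter, ← h, Equiv.Perm.mul_apply, Equiv.Perm.mul_apply,
        Equiv.Perm.smul_def]
      simp only [Finset.mem_univ, true_and]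
      exact ⟨fun e => k.injective (by rw [e, Equiv.Perm.coe_inv, Equiv.apply_symm_apply]),
        fun e => by rw [e, Equiv.Perm.coe_inv, Equiv.apply_symm_apply]⟩
    exact ⟨mem_octadFix.2 ⟨hg, fun q hq => (hiff q).2 hq⟩, hiff⟩
  · refine absurd ?_ (GolayInvol.repFree_ne (k⁻¹ p))
    apply k.injective
    rw [show k (GolayInvol.repFree (k⁻¹ p)) = g p by rw [← h]; rfl, hp, Equiv.Perm.coe_inv,
      Equiv.apply_symm_apply]

end Cfsg.Agent.SingleBlock
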