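/-
M22 has a single 2-block.

* `card_sylow_five`, `card_sylow_seven`, `card_sylow_eleven`
* `not_dvd_degree` : no degree is divisible by 2^7
* `sameBlock_m22`
-/
import Cfsg.Agent.Lib.SingleBlock.Common

set_option autoImplicit false

open Cfsg Cfsg.Agent.Golay MulAction
open scoped Pointwise

namespace Cfsg.Agent.SingleBlock

theorem card_m22' : Nat.card ↥Spor.M22 = 443520 :=
  natCard_m22 (a := (none : GolayPt)) (b := (some 0 : GolayPt)) (by simp)

theorem mem_m22 (g : ↥Spor.M22) : (g : Equiv.Perm GolayPt) ∈ M24 ∧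
    (g : Equiv.Perm GolayPt) none = none ∧ (g : Equiv.Perm GolayPt) (some 0) = some 0 :=
  ⟨(apply_M22 g).2.2, (apply_M22 g).1, (apply_M22 g).2.1⟩

theorem cent_bound {p k : ℕ} [Fact p.Prime] {z : ↥Spor.M22} (hz : orderOf z = p)
    (hk : 24 - ((z : Equiv.Perm GolayPt).supportᶜ).card = k)
    (key : ∀ a, (z : Equiv.Perm GolayPt) a ≠ a → ∀ g : ↥Spor.M22,
      (g : Equiv.Perm GolayPt) * z = (z : Equiv.Perm GolayPt) * g →
      (g : Equiv.Perm GolayPt) a = a → g = 1) :
    Nat.card (Subgroup.centralizer ({z} : Set ↥Spor.M22)) ≤ k := by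
  obtain ⟨a, ha⟩ : ∃ a, (z : Equiv.Perm GolayPt) a ≠ a := by
    by_contra! h
    rw [show z = 1 from Subtype.ext (Equiv.ext h), orderOf_one] at hz
    exact (Fact.out : p.Prime).ne_one hz.symm
  have hs : (z : Equiv.Perm GolayPt).support.card = k := by
    have h := Finset.card_compl (z : Equiv.Perm GolayPt).support
    have h2 : (z : Equiv.Perm GolayPt).support.card ≤ 24 := (Finset.card_le_univ _).trans (by simp)
    simp only [show Fintype.card GolayPt = 24 by simp] at h
    omega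
  refine (card_le_moved_mul Spor.M22.subtype z ha (k := 1) ?_).trans (by simp [hs])
  refine (Set.ncard_le_one_iff (Set.toFinite _)).2 fun {x y} hx hy => ?_
  rw [key a ha x (congrArg Subtype.val hx.1) hx.2, key a ha y (congrArg Subtype.val hy.1) hy.2]

theorem count {p k n : ℕ} [Fact p.Prime] (hp : p ∣ 443520) (hp2 : ¬ p ^ 2 ∣ 443520) {z : ↥Spor.M22}
    (hz : orderOf z = p) (hC : Nat.card (Subgroup.centralizer ({z} : Set ↥Spor.M22)) ≤ k)
    (solve : ∀ c ≤ k / p, ∀ r ≤ p - 1, r ∣ p - 1 → p * c * r ∣ 443520 →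
      (443520 / (p * c * r)) % p = 1 → 443520 / (p * c * r) = n) :
    Nat.card (Sylow p ↥Spor.M22) = n := by
  obtain ⟨c, r, hc, hr, hN⟩ := card_normalizer_eq hz
  obtain ⟨h1, h2⟩ := sylow_count (card_m22'.symm ▸ hp) (card_m22'.symm ▸ hp2) hz
  rw [hN, card_m22'] at h1
  have hpos := (Fact.out : p.Prime).one_lt
  have hm : p * c * r ≠ 0 := fun h => by rw [h, mul_zero] at h1; omega
  have hdiv : 443520 / (p * c * r) = Nat.card (Sylow p ↥Spor.M22) := by
    conv_lhs => rw [← h1, Nat.mul_div_cancel _ (Nat.pos_of_ne_zero hm)]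
  rw [← hdiv] at h2 ⊢
  refine solve c ?_ r (Nat.le_of_dvd (by omega) hr) hr (Dvd.intro_left _ h1) h2
  rw [Nat.le_div_iff_mul_le (by omega), mul_comm, ← hc]
  exact hC

theorem card_sylow_five : Nat.card (Sylow 5 ↥Spor.M22) = 22176 := by
  haveI : Fact (Nat.Prime 5) := ⟨by norm_num⟩
  obtain ⟨z, hz⟩ := exists_prime_orderOf_dvd_card' 5 (card_m22'.symm ▸ (by norm_num : 5 ∣ 443520))
  obtain ⟨hzM, hza, hzb⟩ := mem_m22 z
  have ho : orderOf (z : Equiv.Perm GolayPt) = 5 := by rw [Subgroup.orderOf_coe, hz]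
  refine count (k := 20) (by norm_num) (by norm_num) hz ?_ (by decide +kernel)
  refine cent_bound hz (by rw [fixed_five hzM ho]) fun a ha g hc hga => Subtype.ext ?_
  obtain ⟨hgM, hg1, hg2⟩ := mem_m22 g
  obtain ⟨T, e, -, -, hins, hcy⟩ := cycle_five hzM ho ha
  obtain ⟨-, -, hone⟩ := hcy _ hgM hc hga
  have hmem : ∀ q, (z : Equiv.Perm GolayPt) q = q → q = e ∨ q ∈ T := fun q hq => by
    have : q ∈ (z : Equiv.Perm GolayPt).supportᶜ := by simpa using hq
    rwa [hins, Finset.mem_insert] at this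
  rcases hmem none hza with h | h
  · rcases hmem (some 0) hzb with h' | h'
    · exact absurd (h.trans h'.symm) (by simp)
    · exact hone _ h' hg2
  · exact hone _ h hg1

theorem card_sylow_seven : Nat.card (Sylow 7 ↥Spor.M22) = 21120 := by
  haveI : Fact (Nat.Prime 7) := ⟨by norm_num⟩
  obtain ⟨z, hz⟩ := exists_prime_orderOf_dvd_card' 7 (card_m22'.symm ▸ (by norm_num : 7 ∣ 443520))
  obtain ⟨hzM, hza, hzb⟩ := mem_m22 z
  have ho : orderOf (z : Equiv.Perm GolayPt) = 7 := by rw [Subgroup.orderOf_coe, hz]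
  refine count (k := 21) (by norm_num) (by norm_num) hz ?_ (by decide +kernel)
  refine cent_bound hz (by rw [natCard_fixed_order_seven hzM ho]) fun a ha g hc hga => Subtype.ext ?_
  obtain ⟨hgM, hg1, hg2⟩ := mem_m22 g
  refine eq_one_of_cycle ho hgM hc ha hga (F := {none, some 0}) (fun f hf => ?_) (by simp)
  rcases Finset.mem_insert.1 hf with rfl | hf
  · exact ⟨hza, hg1⟩
  · rw [Finset.mem_singleton] at hf
    subst hf
    exact ⟨hzb, hg2⟩

theorem card_sylow_eleven : Nat.card (Sylow 11 ↥Spor.M22) = 8064 := by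
  haveI : Fact (Nat.Prime 11) := ⟨by norm_num⟩
  obtain ⟨z, hz⟩ := exists_prime_orderOf_dvd_card' 11 (card_m22'.symm ▸ (by norm_num : 11 ∣ 443520))
  obtain ⟨hzM, hza, hzb⟩ := mem_m22 z
  have ho : orderOf (z : Equiv.Perm GolayPt) = 11 := by rw [Subgroup.orderOf_coe, hz]
  refine count (k := 22) (by norm_num) (by norm_num) hz ?_ (by decide +kernel)
  refine cent_bound hz (by rw [fixed_eleven hzM ho]) fun a ha g hc hga => Subtype.ext ?_
  exact eq_one_of_cycle ho (mem_m22 g).1 hc ha hga (F := ∅) (by simp) (by norm_num)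

theorem not_dvd_degree (χ : IrrCharacter ↥Spor.M22) :
    ¬ 2 ^ 7 ∣ charDegree (χ : ↥Spor.M22 → ℂ) := by
  classical
  have := Fintype.ofFinite ↥Spor.M22
  rintro ⟨k, hk⟩
  have hχ := χ.2
  have hch := Char.IsIrrCharacter.isCharacter hχ
  have hd : (χ : ↥Spor.M22 → ℂ) 1 = ((128 * k : ℕ) : ℂ) := by
    rw [← Blocks.charDegree_cast χ, hk]
    norm_num
  have hk0 : 128 * k ∣ 443520 := by
    rw [← card_m22', show 128 * k = charDegree (χ : ↥Spor.M22 → ℂ) by rw [hk]; norm_num]
    exact Blocks.charDegree_dvd_card χ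
  have hN := sum_norm_sq hχ
  rw [card_m22'] at hN
  have hnn : ∀ g, 0 ≤ ‖(χ : ↥Spor.M22 → ℂ) g‖ ^ 2 := fun g => sq_nonneg _
  have hle := sum_orders_le hnn ({1, 5, 7, 11} : Finset ℕ)
  rw [hN] at hle
  simp only [Finset.sum_insert, Finset.mem_insert, Finset.mem_singleton, Nat.reduceEqDiff, or_self,
    not_false_eq_true, Finset.sum_singleton, sum_order_one hd] at hle
  have hint : ∀ p : ℕ, ∀ g : ↥Spor.M22, orderOf g = p →
      IsIntegral ℤ ((χ : ↥Spor.M22 → ℂ) g / (1 : ℕ)) := fun _ g _ => by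
    simpa using Char.IsCharacter.isIntegral hch g
  haveI : Fact (Nat.Prime 5) := ⟨by norm_num⟩
  haveI : Fact (Nat.Prime 7) := ⟨by norm_num⟩
  haveI : Fact (Nat.Prime 11) := ⟨by norm_num⟩
  have hp : ∀ p ∈ [5, 7, 11], p ∣ Nat.card ↥Spor.M22 ∧ ¬ p ^ 2 ∣ Nat.card ↥Spor.M22 := by
    rw [card_m22']; decide +kernel
  have b5 := fun r hr hmod => le_sum_filter (p := 5) (hp 5 (by simp)).1 (hp 5 (by simp)).2 hch hd
    (a := 1) (r := r) hr one_ne_zero (by norm_num) (hint 5) hmod
  have b7 := fun r hr hmod => le_sum_filter (p := 7) (hp 7 (by simp)).1 (hp 7 (by simp)).2 hch hd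
    (a := 1) (r := r) hr one_ne_zero (by norm_num) (hint 7) hmod
  have b11 := fun r hr hmod => le_sum_filter (p := 11) (hp 11 (by simp)).1 (hp 11 (by simp)).2 hch hd
    (a := 1) (r := r) hr one_ne_zero (by norm_num) (hint 11) hmod
  rw [card_sylow_five] at b5
  rw [card_sylow_seven] at b7
  rw [card_sylow_eleven] at b11
  have hkpos : k ≠ 0 := by
    rintro rfl
    exact absurd hd (by simpa using Char.IsIrrCharacter.apply_one_ne_zero hχ)
  have hk5 : k ≤ 5 := by
    by_contra h
    have : (768 : ℝ) ≤ ((128 * k : ℕ) : ℝ) := by exact_mod_cast (by omega : 768 ≤ 128 * k)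
    have h2 : (768 : ℝ) ^ 2 ≤ ((128 * k : ℕ) : ℝ) ^ 2 := pow_le_pow_left₀ (by norm_num) this 2
    have hs : ∀ n, 0 ≤ ∑ g ∈ Finset.univ.filter (fun g : ↥Spor.M22 => orderOf g = n),
        ‖(χ : ↥Spor.M22 → ℂ) g‖ ^ 2 := fun n => Finset.sum_nonneg fun g _ => hnn g
    norm_num at hle h2
    linarith [hs 5, hs 7, hs 11]
  interval_cases k <;> norm_num at hk0
  · -- degree 128
    have := b5 3 (by norm_num) (by norm_num)
    have := b7 2 (by norm_num) (by norm_num)
    have := b11 7 (by norm_num) (by norm_num)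
    norm_num at *
    linarith
  · -- degree 384
    have h5 := b5 4 (by norm_num) (by norm_num)
    have h7 := b7 6 (by norm_num) (by norm_num)
    have h11 := b11 10 (by norm_num) (by norm_num)
    norm_num at hle h5 h7 h11
    obtain ⟨s5, hs5, e5⟩ := sum_filter_of_minimal (p := 5) (hp 5 (by simp)).1 (hp 5 (by simp)).2
      hch hd (q := 76) (by norm_num) (by rw [card_sylow_five]; norm_num; linarith)
    obtain ⟨s7, hs7, e7⟩ := sum_filter_of_minimal (p := 7) (hp 7 (by simp)).1 (hp 7 (by simp)).2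
      hch hd (q := 54) (by norm_num) (by rw [card_sylow_seven]; norm_num; linarith)
    obtain ⟨s11, hs11, e11⟩ := sum_filter_of_minimal (p := 11) (hp 11 (by simp)).1 (hp 11 (by simp)).2
      hch hd (q := 34) (by norm_num) (by rw [card_sylow_eleven]; norm_num; linarith)
    set A := ({1, 5, 7, 11} : Finset ℕ).biUnion fun n =>
      Finset.univ.filter fun g : ↥Spor.M22 => orderOf g = n with hA
    have hdisj : ∀ f : ↥Spor.M22 → ℝ, ∑ g ∈ A, f g = ∑ n ∈ ({1, 5, 7, 11} : Finset ℕ),
        ∑ g ∈ Finset.univ.filter (fun g : ↥Spor.M22 => orderOf g = n), f g := fun f => by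
      rw [hA, Finset.sum_biUnion]
      intro a _ b _ hab
      simp only [Function.onFun]
      exact Finset.disjoint_filter.2 fun x _ h h' => hab (h.symm.trans h')
    have hrest : ∑ g ∈ Aᶜ, ‖(χ : ↥Spor.M22 → ℂ) g‖ ^ 2 = 0 := by
      have h := Finset.sum_add_sum_compl A fun g => ‖(χ : ↥Spor.M22 → ℂ) g‖ ^ 2
      rw [hN, hdisj] at h
      simp only [Finset.sum_insert, Finset.mem_insert, Finset.mem_singleton, Nat.reduceEqDiff,
        or_self, not_false_eq_true, Finset.sum_singleton, sum_order_one hd] at h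
      norm_num at h
      exact le_antisymm (by linarith) (Finset.sum_nonneg fun g _ => hnn g)
    have hzero : ∀ g ∈ Aᶜ, (χ : ↥Spor.M22 → ℂ) g = 0 := fun g hg => by
      simpa using (Finset.sum_eq_zero_iff_of_nonneg fun g _ => hnn g).1 hrest g hg
    have hsum := sum_irr_eq_zero hχ fun h => by
      rw [h] at hd; norm_num at hd
    rw [← Finset.sum_add_sum_compl A, Finset.sum_eq_zero hzero, add_zero, hA, Finset.sum_biUnion
      (fun a _ b _ hab => Finset.disjoint_filter.2 fun x _ h h' => hab (h.symm.trans h'))] at hsum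
    have h1 : Finset.univ.filter (fun g : ↥Spor.M22 => orderOf g = 1) = {1} := by ext g; simp
    simp only [Finset.sum_insert, Finset.mem_insert, Finset.mem_singleton, Nat.reduceEqDiff, or_self,
      not_false_eq_true, Finset.sum_singleton, h1, e5, e7, e11, hd, card_sylow_five, card_sylow_seven,
      card_sylow_eleven] at hsum
    simp only [List.mem_cons, List.not_mem_nil, or_false] at hs5 hs7 hs11
    rcases hs5 with rfl | rfl <;> rcases hs7 with rfl | rfl <;> rcases hs11 with rfl | rfl <;>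
      norm_num at hsum
  · -- degree 640
    have := b11 2 (by norm_num) (by norm_num)
    have := b5 0 (by norm_num) (by norm_num)
    have := b7 3 (by norm_num) (by norm_num)
    norm_num at *
    linarith

theorem sameBlock_m22 {M : Ideal AlgInt} (hM : IsPModular 2 M) (χ ψ : IrrCharacter ↥Spor.M22) :
    SameBlock M (χ : ↥Spor.M22 → ℂ) (ψ : ↥Spor.M22 → ℂ) := by
  refine sameBlock_of_local hM (fun x hx => ?_) (fun χ => ?_) χ ψ
  · obtain ⟨hxM, hxa, hxb⟩ := mem_m22 x
    obtain ⟨o, ho, hxo, hfix⟩ := exists_octad_fixed hxM (by rw [Subgroup.orderOf_coe, hx]) hxa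
    refine sameBlock_octad (K := Spor.M22) (fun g hg => (mem_m22 ⟨g, hg⟩).1) ho (fun g hg => ?_)
      hxo hfix hM
    exact mem_M22_of_fix (mem_octadFix.1 hg).1 ((mem_octadFix.1 hg).2 _ ((hfix _).1 hxa))
      ((mem_octadFix.1 hg).2 _ ((hfix _).1 hxb))
  · refine factorization_lt (e := 7) Nat.prime_two (Blocks.charDegree_pos χ).ne' ?_ (not_dvd_degree χ)
    rw [card_m22', show 443520 = 2 ^ 7 * 3465 by norm_num, Nat.factorization_mul (by norm_num)
      (by norm_num), Finsupp.add_apply, Nat.Prime.factorization_pow Nat.prime_two,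
      Nat.factorization_eq_zero_of_not_dvd (by norm_num : ¬ 2 ∣ 3465)]
    simp

end Cfsg.Agent.SingleBlock
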