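/-
Data for M24: generators of the normal subgroup fixing the tetrads in the centraliser of a fixed
point free involution, and an element of order five commuting with a four group.
Permutations are coded by five bits for each point and checked by the kernel where used.
-/
import Cfsg.Agent.EqLemmas

set_option autoImplicit false

namespace Cfsg.Agent.SingleBlock

/-- Six generators of the subgroup fixing all tetrads. -/
def tetGens : List ℕ :=
  [0xbc533a4ace340ac59ea853da320820, 0xbc269ac9d65448c5be8831c6d28820,
   0xbc2954c9d6345ac41e6b53ca418440, 0xbc669acace3c1ac11a817a8a41ad00,
   0x93a69ade11359a059e8853ca41882c, 0x64695482ce541b75be6831ca418832]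

/-- An element of order five. -/
def fiveGen : ℕ := 0xbad467c90170a8c2d8ed846b349060

/-- Two commuting involutions centralising it. -/
def fiveInvA : ℕ := 0x94133a5dd63448009ea253c6d2a16c

/-- The second one. -/
def fiveInvB : ℕ := 0x63a69a82115587713e8131c856ad12

end Cfsg.Agent.SingleBlock
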