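/-
The centraliser of a fixed point free involution of M24 has a self-centralising normal 2-subgroup:
the elements fixing each tetrad of its sextet.

* `sameBlock_free`
-/
import Cfsg.Agent.Lib.SingleBlock.Criterion
import Cfsg.Agent.Lib.SingleBlock.M24Data
import Cfsg.Agent.Lib.GolayClasses.FreeConj

set_option autoImplicit false
set_option maxRecDepth 100000

open Cfsg Cfsg.Agent.Golay Cfsg.Agent.GolayClasses Cfsg.Agent.GolayOrbitLists
open scoped Pointwise

namespace Cfsg.Agent.SingleBlock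

/-- A coded map keeps every tetrad. -/
def keeps (f : ℕ → ℕ) : Bool :=
  freeSextet.all fun m => (List.range 24).all fun i => m.testBit i == m.testBit (f i)

/-- The permutations fixing every tetrad. -/
def tetFix : Subgroup (Equiv.Perm GolayPt) where
  carrier := {g | ∀ t ∈ obj freeSextet, g • t = t}
  one_mem' := fun t _ => one_smul _ t
  mul_mem' := fun {g h} hg hh t ht => by rw [mul_smul, hh t ht, hg t ht]
  inv_mem' := fun {g} hg t ht => by rw [inv_smul_eq_iff, hg t ht]

theorem keeps_iff {g : Equiv.Perm GolayPt} {f : ℕ → ℕ} (hf : ∀ p, idx (g p) = f (idx p)) :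
    g ∈ tetFix ↔ keeps f = true := by
  simp only [keeps, List.all_eq_true, List.mem_range, beq_iff_eq]
  constructor
  · intro h m hm i hi
    have hfix := h (pts m) (mem_obj.2 ⟨m, hm, rfl⟩)
    have hiff : pt i ∈ pts m ↔ g (pt i) ∈ pts m := by
      conv_rhs => rw [← hfix, ← Equiv.Perm.smul_def, Finset.smul_mem_smul_finset_iff]
    rw [mem_pts, mem_pts, hf, idx_pt hi] at hiff
    exact Bool.eq_iff_iff.2 hiff
  · intro h t ht
    obtain ⟨m, hm, rfl⟩ := mem_obj.1 ht
    have key : ∀ q, g q ∈ pts m ↔ q ∈ pts m := fun q => by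
      rw [mem_pts, mem_pts, hf, ← h m hm _ (idx_lt q)]
    ext p
    rw [← Finset.inv_smul_mem_iff, ← key, Equiv.Perm.smul_def, Equiv.Perm.coe_inv,
      Equiv.apply_symm_apply]

theorem stab_aut : freeStab.all isAut = true ∧ freeMoves.all isAut = true := by decide +kernel

theorem exists_factor {c : Equiv.Perm GolayPt} (hc : c ∈ Cent) :
    ∃ d ∈ freeMoves, ∃ e ∈ freeStab, ∀ p, idx (c p) = fn d (fn e (idx p)) := by
  obtain ⟨d, hd, hdC, hdp⟩ := exists_move (c (bpt 0))
  obtain ⟨e, he, hec⟩ := natCard_cent_stab.2 ((toPerm d)⁻¹ * c) (mul_mem (inv_mem hdC) hc) (by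
    rw [Equiv.Perm.mul_apply, ← hdp, Equiv.Perm.coe_inv, Equiv.symm_apply_apply])
  refine ⟨d, hd, e, he, fun p => ?_⟩
  rw [← idx_toPerm (validPerm_of_isAut (List.all_eq_true.1 stab_aut.1 e he)), hec,
    ← idx_toPerm (validPerm_of_isAut (List.all_eq_true.1 stab_aut.2 d hd)), ← Equiv.Perm.mul_apply,
    mul_inv_cancel_left]

theorem square_check : (freeMoves.all fun d => freeStab.all fun e =>
    !keeps (fun i => fn d (fn e i)) ||
      (List.range 24).all fun i => fn d (fn e (fn d (fn e i))) == i) = true := by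
  decide +kernel

theorem gens_check : (tetGens.all fun q => isAut q && commutes q && keeps (fn q)) = true := by
  decide +kernel

theorem self_check : (freeMoves.all fun d => freeStab.all fun e =>
    (tetGens.any fun q => (List.range 24).any fun i => fn q (fn d (fn e i)) != fn d (fn e (fn q i))) ||
      keeps (fun i => fn d (fn e i))) = true := by
  decide +kernel

theorem mul_self_of_tetFix {g : Equiv.Perm GolayPt} (hg : g ∈ Cent) (ht : g ∈ tetFix) : g * g = 1 := by
  obtain ⟨d, hd, e, he, hf⟩ := exists_factor hg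
  have h := List.all_eq_true.1 (List.all_eq_true.1 square_check d hd) e he
  rw [(keeps_iff hf).1 ht] at h
  simp only [Bool.not_true, Bool.false_or, List.all_eq_true, List.mem_range, beq_iff_eq] at h
  refine Equiv.ext fun p => idx_injective ?_
  rw [Equiv.Perm.mul_apply, hf, hf, h _ (idx_lt p)]
  rfl

theorem mem_tetFix_of_commute {g : Equiv.Perm GolayPt} (hg : g ∈ Cent)
    (h : ∀ q ∈ Cent, q ∈ tetFix → q * g = g * q) : g ∈ tetFix := by
  obtain ⟨d, hd, e, he, hf⟩ := exists_factor hg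
  have hs := List.all_eq_true.1 (List.all_eq_true.1 self_check d hd) e he
  rw [Bool.or_eq_true] at hs
  refine (keeps_iff hf).2 (hs.resolve_left fun hq => ?_)
  simp only [List.any_eq_true, List.mem_range, bne_iff_ne] at hq
  obtain ⟨q, hq, i, hi, hne⟩ := hq
  have hg' := List.all_eq_true.1 gens_check q hq
  simp only [Bool.and_eq_true] at hg'
  have hqi := idx_toPerm (validPerm_of_isAut hg'.1.1)
  have e1 := congrArg idx (Equiv.congr_fun
    (h _ (commute_of_commutes hg'.1.1 hg'.1.2) ((keeps_iff hqi).2 hg'.2)) (pt i))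
  rw [Equiv.Perm.mul_apply, Equiv.Perm.mul_apply, hqi, hf, hf, hqi, idx_pt hi] at e1
  exact hne e1

theorem conj_tetFix {c g : Equiv.Perm GolayPt} (hc : c ∈ Cent) (hg : g ∈ tetFix) :
    c * g * c⁻¹ ∈ tetFix := by
  intro t ht
  have h := free_sextet.2.2 c hc
  rw [← h] at ht
  obtain ⟨s, hs, rfl⟩ := Finset.mem_smul_finset.1 ht
  rw [mul_smul, mul_smul, inv_smul_smul, hg s hs]

theorem sameBlock_free {x : ↥M24} (h2 : orderOf x = 2)
    (h0 : ∀ p, (x : Equiv.Perm GolayPt) p ≠ p) {M : Ideal AlgInt} (hM : IsPModular 2 M) :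
    ∀ χ ψ : IrrCharacter (Subgroup.centralizer ({x} : Set M24)),
    SameBlock M (χ : Subgroup.centralizer ({x} : Set M24) → ℂ) (ψ : _ → ℂ) := by
  haveI : Fact (Nat.Prime 2) := ⟨Nat.prime_two⟩
  obtain ⟨u, hu, hux⟩ := exists_conj_of_free x.2 (by rw [Subgroup.orderOf_coe, h2]) h0
  set C := Subgroup.centralizer ({x} : Set M24)
  intro χ ψ
  let f : C →* Equiv.Perm GolayPt :=
    ((MulAut.conj u⁻¹).toMonoidHom.comp M24.subtype).comp C.subtype
  have hf : ∀ c : C, f c = u⁻¹ * ((c : M24) : Equiv.Perm GolayPt) * u := fun c => by simp [f]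
  have hfinj : Function.Injective f := fun a b h => by
    rw [hf, hf] at h
    exact Subtype.ext (Subtype.ext (mul_left_cancel (mul_right_cancel h)))
  have hfC : ∀ c : C, f c ∈ Cent := fun c => by
    refine mem_Cent.2 ⟨?_, ?_⟩
    · rw [hf]; exact mul_mem (mul_mem (inv_mem hu) (c : M24).2) hu
    · have hc : ((c : M24) : Equiv.Perm GolayPt) * x = (x : Equiv.Perm GolayPt) * (c : M24) :=
        congrArg Subtype.val (Subgroup.mem_centralizer_singleton_iff.1 c.2)
      rw [← hux] at hc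
      rw [hf]
      calc u⁻¹ * ((c : M24) : Equiv.Perm GolayPt) * u * freeS
          = u⁻¹ * (((c : M24) : Equiv.Perm GolayPt) * (u * freeS * u⁻¹)) * u := by group
        _ = freeS * (u⁻¹ * ((c : M24) : Equiv.Perm GolayPt) * u) := by rw [hc]; group
  let Q : Subgroup C := tetFix.comap f
  haveI : Q.Normal := ⟨fun q hq c => by
    show f (c * q * c⁻¹) ∈ tetFix
    rw [map_mul, map_mul, map_inv]
    exact conj_tetFix (hfC c) hq⟩
  have hQ : IsPGroup 2 Q := fun q => ⟨1, by
    rw [pow_one, sq]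
    refine Subtype.ext (hfinj ?_)
    rw [Subgroup.coe_mul, map_mul, mul_self_of_tetFix (hfC q) q.2, Subgroup.coe_one, map_one]⟩
  refine sameBlock_of_constrained hM Q hQ (fun c hc => ?_) χ ψ
  refine mem_tetFix_of_commute (hfC c) fun q hqC hq => ?_
  obtain ⟨hqM, hqc⟩ := mem_Cent.1 hqC
  have hyM : u * q * u⁻¹ ∈ M24 := mul_mem (mul_mem hu hqM) (inv_mem hu)
  have hy : (⟨u * q * u⁻¹, hyM⟩ : M24) ∈ C :=
    Subgroup.mem_centralizer_singleton_iff.2 (Subtype.ext (by
      show u * q * u⁻¹ * (x : Equiv.Perm GolayPt) = (x : Equiv.Perm GolayPt) * (u * q * u⁻¹)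
      rw [← hux]
      calc u * q * u⁻¹ * (u * freeS * u⁻¹) = u * (q * freeS) * u⁻¹ := by group
        _ = u * (freeS * q) * u⁻¹ := by rw [hqc]
        _ = u * freeS * u⁻¹ * (u * q * u⁻¹) := by group))
  have hfy : f ⟨⟨u * q * u⁻¹, hyM⟩, hy⟩ = q := by rw [hf]; group
  have hmem : (⟨⟨u * q * u⁻¹, hyM⟩, hy⟩ : C) ∈ Q := by
    show f _ ∈ tetFix
    rw [hfy]; exact hq
  have h := congrArg f (Subgroup.mem_centralizer_iff.1 hc _ hmem)
  rwa [map_mul, map_mul, hfy] at h

end Cfsg.Agent.SingleBlock
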