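/-
M24 has a single 2-block.

* `not_dvd_degree24` : no degree is divisible by 2^10
* `sameBlock_m24`
-/
import Cfsg.Agent.Lib.SingleBlock.Common
import Cfsg.Agent.Lib.SingleBlock.FreeCent
import Cfsg.Agent.Lib.GolayClasses.Seven

set_option autoImplicit false
set_option maxRecDepth 100000

open Cfsg Cfsg.Agent.Golay MulAction
open scoped Pointwise

namespace Cfsg.Agent.SingleBlock

theorem exists_moved {p : ℕ} [Fact p.Prime] {z : ↥Cfsg.M24} (hz : orderOf z = p) :
    ∃ a, (z : Equiv.Perm GolayPt) a ≠ a := by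
  by_contra! h
  rw [show z = 1 from Subtype.ext (Equiv.ext h), orderOf_one] at hz
  exact (Fact.out : p.Prime).ne_one hz.symm

theorem card_support_eq (σ : Equiv.Perm GolayPt) : σ.support.card = 24 - (σ.supportᶜ).card := by
  have h := Finset.card_compl σ.support
  have h2 : σ.support.card ≤ 24 := (Finset.card_le_univ _).trans (by simp)
  simp only [show Fintype.card GolayPt = 24 by simp] at h
  omega

theorem cent_le_support {p : ℕ} [Fact p.Prime] {z : ↥Cfsg.M24} (hz : orderOf z = p) (hp : 9 ≤ p) :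
    Nat.card (Subgroup.centralizer ({z} : Set ↥Cfsg.M24)) ≤ (z : Equiv.Perm GolayPt).support.card := by
  obtain ⟨a, ha⟩ := exists_moved hz
  refine (card_le_moved_mul Cfsg.M24.subtype z ha (k := 1) ?_).trans (mul_one _).le
  refine (Set.ncard_le_one_iff (Set.toFinite _)).2 fun {x y} hx hy => ?_
  have key : ∀ g : ↥Cfsg.M24, g * z = z * g → (g : Equiv.Perm GolayPt) a = a → g = 1 := fun g hc hga =>
    Subtype.ext (eq_one_of_cycle (p := p) (by rw [Subgroup.orderOf_coe, hz]) g.2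
      (congrArg Subtype.val hc) ha hga (F := ∅) (by simp) (by simpa using hp))
  rw [key x hx.1 hx.2, key y hy.1 hy.2]

theorem count24 {p k n : ℕ} [Fact p.Prime] (hp : p ∣ 244823040) (hp2 : ¬ p ^ 2 ∣ 244823040) {z : ↥Cfsg.M24}
    (hz : orderOf z = p) (hC : Nat.card (Subgroup.centralizer ({z} : Set ↥Cfsg.M24)) ≤ k)
    (solve : ∀ c ≤ k / p, ∀ r ≤ p - 1, r ∣ p - 1 → p * c * r ∣ 244823040 →
      (244823040 / (p * c * r)) % p = 1 → n ≤ 244823040 / (p * c * r)) :
    n ≤ Nat.card (Sylow p ↥Cfsg.M24) := by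
  obtain ⟨c, r, hc, hr, hN⟩ := card_normalizer_eq hz
  obtain ⟨h1, h2⟩ := sylow_count (Golay.natCard_M24.symm ▸ hp) (Golay.natCard_M24.symm ▸ hp2) hz
  rw [hN, Golay.natCard_M24] at h1
  have hpos := (Fact.out : p.Prime).one_lt
  have hm : p * c * r ≠ 0 := fun h => by rw [h, mul_zero] at h1; omega
  have hdiv : 244823040 / (p * c * r) = Nat.card (Sylow p ↥Cfsg.M24) := by
    conv_lhs => rw [← h1, Nat.mul_div_cancel _ (Nat.pos_of_ne_zero hm)]
  rw [← hdiv] at h2 ⊢
  refine solve c ?_ r (Nat.le_of_dvd (by omega) hr) hr (Dvd.intro_left _ h1) h2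
  rw [Nat.le_div_iff_mul_le (by omega), mul_comm, ← hc]
  exact hC

theorem sylow_twentythree : 967680 ≤ Nat.card (Sylow 23 ↥Cfsg.M24) := by
  haveI : Fact (Nat.Prime 23) := ⟨by norm_num⟩
  obtain ⟨z, hz⟩ := exists_prime_orderOf_dvd_card' 23
    (Golay.natCard_M24.symm ▸ (by norm_num : 23 ∣ 244823040))
  refine count24 (k := 23) (by norm_num) (by norm_num) hz ?_ (by decide +kernel)
  refine (cent_le_support hz (by norm_num)).trans ?_
  rw [card_support_eq, fixed_twentythree z.2 (by rw [Subgroup.orderOf_coe, hz])]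

theorem sylow_eleven : 2225664 ≤ Nat.card (Sylow 11 ↥Cfsg.M24) := by
  haveI : Fact (Nat.Prime 11) := ⟨by norm_num⟩
  obtain ⟨z, hz⟩ := exists_prime_orderOf_dvd_card' 11
    (Golay.natCard_M24.symm ▸ (by norm_num : 11 ∣ 244823040))
  refine count24 (k := 22) (by norm_num) (by norm_num) hz ?_ (by decide +kernel)
  refine (cent_le_support hz (by norm_num)).trans ?_
  rw [card_support_eq, fixed_eleven z.2 (by rw [Subgroup.orderOf_coe, hz])]

theorem cent_seven {z : ↥Cfsg.M24} (hz : orderOf z = 7) :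
    Nat.card (Subgroup.centralizer ({z} : Set ↥Cfsg.M24)) = 42 := by
  haveI : Fact (Nat.Prime 7) := ⟨by norm_num⟩
  rw [card_centralizer_of_orderOf (z := (⟨GolayClasses.sevenZ, GolayClasses.sevenZ_mem⟩ : ↥Cfsg.M24))
    (by rw [Golay.natCard_M24]; norm_num) (by rw [Golay.natCard_M24]; norm_num)
    (by rw [Subgroup.orderOf_mk, GolayClasses.orderOf_sevenZ]) hz, ← GolayClasses.natCard_seven_cent]
  refine Nat.card_congr
    { toFun := fun g => ⟨((g : ↥Cfsg.M24) : Equiv.Perm GolayPt), (g : ↥Cfsg.M24).2, ?_⟩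
      invFun := fun g => ⟨⟨g.1, g.2.1⟩, Subgroup.mem_centralizer_singleton_iff.2 (Subtype.ext ?_)⟩
      left_inv := fun g => rfl
      right_inv := fun g => rfl }
  · rw [pow_one]
    exact congrArg Subtype.val (Subgroup.mem_centralizer_singleton_iff.1 g.2)
  · show g.1 * GolayClasses.sevenZ = GolayClasses.sevenZ * g.1
    have h := g.2.2
    rwa [pow_one] at h

theorem sylow_seven : 1943040 ≤ Nat.card (Sylow 7 ↥Cfsg.M24) := by
  haveI : Fact (Nat.Prime 7) := ⟨by norm_num⟩
  obtain ⟨z, hz⟩ := exists_prime_orderOf_dvd_card' 7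
    (Golay.natCard_M24.symm ▸ (by norm_num : 7 ∣ 244823040))
  exact count24 (k := 42) (by norm_num) (by norm_num) hz (cent_seven hz).le (by decide +kernel)

theorem five_check : (isAut fiveGen && isAut fiveInvA && isAut fiveInvB &&
    (List.range 24).all (fun i => fn fiveGen (fn fiveGen (fn fiveGen (fn fiveGen (fn fiveGen i)))) == i) &&
    (List.range 24).any (fun i => fn fiveGen i != i) &&
    (List.range 24).all (fun i => fn fiveInvA (fn fiveInvA i) == i) &&
    (List.range 24).all (fun i => fn fiveInvB (fn fiveInvB i) == i) &&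
    (List.range 24).any (fun i => fn fiveInvA i != i) &&
    (List.range 24).any (fun i => fn fiveInvB i != i) &&
    (List.range 24).any (fun i => fn fiveInvA i != fn fiveInvB i) &&
    (List.range 24).all (fun i => fn fiveGen (fn fiveInvA i) == fn fiveInvA (fn fiveGen i)) &&
    (List.range 24).all (fun i => fn fiveGen (fn fiveInvB i) == fn fiveInvB (fn fiveGen i)) &&
    (List.range 24).all (fun i => fn fiveInvA (fn fiveInvB i) == fn fiveInvB (fn fiveInvA i))) = true := by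
  decide +kernel

theorem four_dvd_cent_five {z : ↥Cfsg.M24} (hz : orderOf z = 5) :
    4 ∣ Nat.card (Subgroup.centralizer ({z} : Set ↥Cfsg.M24)) := by
  haveI : Fact (Nat.Prime 5) := ⟨by norm_num⟩
  haveI : Fact (Nat.Prime 2) := ⟨Nat.prime_two⟩
  have h := five_check
  simp only [Bool.and_eq_true, List.all_eq_true, List.any_eq_true, List.mem_range, beq_iff_eq,
    bne_iff_ne] at h
  obtain ⟨⟨⟨⟨⟨⟨⟨⟨⟨⟨⟨⟨az, aa⟩, ab⟩, z5⟩, z1⟩, a2⟩, b2⟩, a1⟩, b1⟩, hab⟩, za⟩, zb⟩, cab⟩ := h
  set w : ↥Cfsg.M24 := ⟨toPerm fiveGen, toPerm_mem_M24 az⟩ with hw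
  set a : ↥Cfsg.M24 := ⟨toPerm fiveInvA, toPerm_mem_M24 aa⟩ with ha
  set b : ↥Cfsg.M24 := ⟨toPerm fiveInvB, toPerm_mem_M24 ab⟩ with hb
  have iw := idx_toPerm (validPerm_of_isAut az)
  have ia := idx_toPerm (validPerm_of_isAut aa)
  have ib := idx_toPerm (validPerm_of_isAut ab)
  have eqv : ∀ g h : ↥Cfsg.M24, (∀ i < 24, idx ((g : Equiv.Perm GolayPt) (pt i)) =
      idx ((h : Equiv.Perm GolayPt) (pt i))) → g = h := fun g h he =>
    Subtype.ext (Equiv.ext fun p => idx_injective (by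
      have := he (idx p) (idx_lt p)
      rwa [pt_idx] at this))
  have hne : ∀ {g h : ↥Cfsg.M24}, (∃ i < 24, idx ((g : Equiv.Perm GolayPt) (pt i)) ≠
      idx ((h : Equiv.Perm GolayPt) (pt i))) → g ≠ h := fun ⟨i, _, hi⟩ e => hi (by rw [e])
  have hwo : orderOf w = 5 := by
    refine orderOf_eq_prime (eqv _ _ fun i hi => ?_) (hne ?_)
    · show idx ((((w ^ 5 : ↥Cfsg.M24)) : Equiv.Perm GolayPt) (pt i)) = _
      simp only [SubmonoidClass.coe_pow, pow_succ, pow_zero, one_mul, Subgroup.coe_mul,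
        Equiv.Perm.mul_apply, hw, iw,
        idx_pt hi, z5 i hi, OneMemClass.coe_one, Equiv.Perm.one_apply]
    · obtain ⟨i, hi, h⟩ := z1
      exact ⟨i, hi, by simp [hw, iw, idx_pt hi, h]⟩
  have hao : orderOf a = 2 := by
    refine orderOf_eq_prime (eqv _ _ fun i hi => ?_) (hne ?_)
    · simp [ha, sq, ia, idx_pt hi, a2 i hi]
    · obtain ⟨i, hi, h⟩ := a1
      exact ⟨i, hi, by simp [ha, ia, idx_pt hi, h]⟩
  have hbo : orderOf b = 2 := by
    refine orderOf_eq_prime (eqv _ _ fun i hi => ?_) (hne ?_)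
    · simp [hb, sq, ib, idx_pt hi, b2 i hi]
    · obtain ⟨i, hi, h⟩ := b1
      exact ⟨i, hi, by simp [hb, ib, idx_pt hi, h]⟩
  have hab' : a ≠ b := hne (by
    obtain ⟨i, hi, h⟩ := hab
    exact ⟨i, hi, by simp [ha, hb, ia, ib, idx_pt hi, h]⟩)
  have cwa : Commute a w := eqv _ _ fun i hi => by simp [hw, ha, iw, ia, idx_pt hi, za i hi]
  have cwb : Commute b w := eqv _ _ fun i hi => by simp [hw, hb, iw, ib, idx_pt hi, zb i hi]
  have cab' : Commute a b := eqv _ _ fun i hi => by simp [ha, hb, ia, ib, idx_pt hi, cab i hi]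
  rw [card_centralizer_of_orderOf (z := w) (by rw [Golay.natCard_M24]; norm_num)
    (by rw [Golay.natCard_M24]; norm_num) hwo hz]
  set C := Subgroup.centralizer ({w} : Set ↥Cfsg.M24)
  have hcomm : ∀ (x : ↥(Subgroup.zpowers a)) (y : ↥(Subgroup.zpowers b)),
      Commute ((Subgroup.zpowers a).subtype x) ((Subgroup.zpowers b).subtype y) := fun x y => by
    obtain ⟨i, hi⟩ := Subgroup.mem_zpowers_iff.1 x.2
    obtain ⟨j, hj⟩ := Subgroup.mem_zpowers_iff.1 y.2
    simp only [Subgroup.coe_subtype, ← hi, ← hj]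
    exact cab'.zpow_zpow i j
  let f := MonoidHom.noncommCoprod (Subgroup.zpowers a).subtype (Subgroup.zpowers b).subtype hcomm
  have hf : Function.Injective f := by
    rw [← MonoidHom.ker_eq_bot_iff, Subgroup.eq_bot_iff_forall]
    rintro ⟨x, y⟩ h
    rw [MonoidHom.mem_ker, MonoidHom.noncommCoprod_apply, Subgroup.coe_subtype, Subgroup.coe_subtype]
      at h
    have hy2 : (y : ↥Cfsg.M24) ∈ Subgroup.zpowers a := by
      rw [eq_inv_of_mul_eq_one_right h]; exact inv_mem x.2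
    have hy : (y : ↥Cfsg.M24) = 1 := by
      by_contra hne
      have hgen : ∀ {c : ↥Cfsg.M24}, orderOf c = 2 → (y : ↥Cfsg.M24) ∈ Subgroup.zpowers c →
          Subgroup.zpowers (y : ↥Cfsg.M24) = Subgroup.zpowers c := fun {c} hc hm => by
        refine mem_zpowers_gen (p := 2) _ (by rw [Nat.card_zpowers, hc]) hm ?_
        have hd := orderOf_dvd_natCard (⟨(y : ↥Cfsg.M24), hm⟩ : Subgroup.zpowers c)
        rw [Nat.card_zpowers, hc, Subgroup.orderOf_mk] at hd
        exact (Nat.prime_two.eq_one_or_self_of_dvd _ hd).resolve_left fun h1 =>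
          hne (orderOf_eq_one_iff.1 h1)
      have heq := (hgen hao hy2).symm.trans (hgen hbo y.2)
      have hmem : a ∈ Subgroup.zpowers b := heq ▸ Subgroup.mem_zpowers a
      obtain ⟨i, hi⟩ := Subgroup.mem_zpowers_iff.1 hmem
      rw [← zpow_mod_orderOf, hbo] at hi
      rcases Int.emod_two_eq_zero_or_one i with h0 | h0 <;> simp only [Nat.cast_ofNat] at hi <;>
        rw [h0] at hi
      · rw [zpow_zero] at hi
        rw [← hi, orderOf_one] at hao
        exact absurd hao (by norm_num)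
      · rw [zpow_one] at hi
        exact hab' hi.symm
    rw [hy, mul_one] at h
    exact Prod.ext (Subtype.ext h) (Subtype.ext hy)
  have hrange : f.range ≤ C := by
    rintro _ ⟨⟨x, y⟩, rfl⟩
    have hle : ∀ {c : ↥Cfsg.M24}, Commute c w → Subgroup.zpowers c ≤ C := fun hc =>
      Subgroup.zpowers_le.2 (Subgroup.mem_centralizer_singleton_iff.2 hc)
    rw [MonoidHom.noncommCoprod_apply]
    exact mul_mem (hle cwa x.2) (hle cwb y.2)
  have hcard : Nat.card f.range = 4 := by
    rw [← Nat.card_congr (MonoidHom.ofInjective hf).toEquiv, Nat.card_prod, Nat.card_zpowers,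
      Nat.card_zpowers, hao, hbo]
  rw [← hcard]
  exact Subgroup.card_dvd_of_le hrange

theorem cent_five_le {z : ↥Cfsg.M24} (hz : orderOf z = 5) :
    Nat.card (Subgroup.centralizer ({z} : Set ↥Cfsg.M24)) ≤ 60 := by
  haveI : Fact (Nat.Prime 5) := ⟨by norm_num⟩
  have ho : orderOf (z : Equiv.Perm GolayPt) = 5 := by rw [Subgroup.orderOf_coe, hz]
  obtain ⟨a, ha⟩ := exists_moved hz
  refine (card_le_moved_mul Cfsg.M24.subtype z ha (k := 3) ?_).trans
    (le_of_eq (by rw [card_support_eq, Subgroup.coe_subtype, fixed_five z.2 ho]))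
  obtain ⟨T, e, hT, -, -, hcy⟩ := cycle_five z.2 ho ha
  obtain ⟨t, ht⟩ : T.Nonempty := Finset.card_pos.1 (by omega)
  rw [← hT, ← Set.ncard_coe_finset]
  refine Set.ncard_le_ncard_of_injOn (fun g => (g : Equiv.Perm GolayPt) t)
    (fun g hg => (hcy _ g.2 (congrArg Subtype.val hg.1) hg.2).1 t ht) (fun x hx y hy h => ?_)
    (Finset.finite_toSet T)
  have hc : Commute (x⁻¹ * y) z := (Commute.inv_left hx.1).mul_left hy.1
  have hga : ((x⁻¹ * y : ↥Cfsg.M24) : Equiv.Perm GolayPt) a = a := by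
    rw [Subgroup.coe_mul, Subgroup.coe_inv, Equiv.Perm.mul_apply, Equiv.Perm.inv_eq_iff_eq]
    exact hy.2.trans hx.2.symm
  have h1 := (hcy _ (x⁻¹ * y).2 (congrArg Subtype.val hc.eq) hga).2.2 t ht (by
    rw [Subgroup.coe_mul, Subgroup.coe_inv, Equiv.Perm.mul_apply, Equiv.Perm.inv_eq_iff_eq]
    exact h.symm)
  exact inv_mul_eq_one.1 (Subtype.ext h1)

theorem sylow_five : 1020096 ≤ Nat.card (Sylow 5 ↥Cfsg.M24) := by
  haveI : Fact (Nat.Prime 5) := ⟨by norm_num⟩
  obtain ⟨z, hz⟩ := exists_prime_orderOf_dvd_card' 5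
    (Golay.natCard_M24.symm ▸ (by norm_num : 5 ∣ 244823040))
  exact count24 (k := 60) (by norm_num) (by norm_num) hz (cent_five_le hz) (by decide +kernel)

theorem not_dvd_degree24 (χ : IrrCharacter ↥Cfsg.M24) :
    ¬ 2 ^ 10 ∣ charDegree (χ : ↥Cfsg.M24 → ℂ) := by
  classical
  have := Fintype.ofFinite ↥Cfsg.M24
  rintro ⟨k, hk⟩
  have hχ := χ.2
  have hch := Char.IsIrrCharacter.isCharacter hχ
  have hd : (χ : ↥Cfsg.M24 → ℂ) 1 = ((1024 * k : ℕ) : ℂ) := by
    rw [← Blocks.charDegree_cast χ, hk]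
    norm_num
  have hk0 : 1024 * k ∣ 244823040 := by
    rw [← Golay.natCard_M24, show 1024 * k = charDegree (χ : ↥Cfsg.M24 → ℂ) by rw [hk]; norm_num]
    exact Blocks.charDegree_dvd_card χ
  have hkpos : k ≠ 0 := by
    rintro rfl
    exact absurd hd (by simpa using Char.IsIrrCharacter.apply_one_ne_zero hχ)
  have hN := sum_norm_sq hχ
  rw [Golay.natCard_M24] at hN
  have hnn : ∀ g, 0 ≤ ‖(χ : ↥Cfsg.M24 → ℂ) g‖ ^ 2 := fun g => sq_nonneg _
  have hle := sum_orders_le hnn ({1, 5, 7, 11, 23} : Finset ℕ)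
  rw [hN] at hle
  simp only [Finset.sum_insert, Finset.mem_insert, Finset.mem_singleton, Nat.reduceEqDiff, or_self,
    not_false_eq_true, Finset.sum_singleton, sum_order_one hd] at hle
  push_cast at hle
  haveI : Fact (Nat.Prime 5) := ⟨by norm_num⟩
  haveI : Fact (Nat.Prime 7) := ⟨by norm_num⟩
  haveI : Fact (Nat.Prime 11) := ⟨by norm_num⟩
  haveI : Fact (Nat.Prime 23) := ⟨by norm_num⟩
  have hp : ∀ p ∈ [5, 7, 11, 23], p ∣ Nat.card ↥Cfsg.M24 ∧ ¬ p ^ 2 ∣ Nat.card ↥Cfsg.M24 := by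
    rw [Golay.natCard_M24]; decide +kernel
  have hint : ∀ p : ℕ, ∀ g : ↥Cfsg.M24, orderOf g = p →
      IsIntegral ℤ ((χ : ↥Cfsg.M24 → ℂ) g / (1 : ℕ)) := fun _ g _ => by
    simpa using Char.IsCharacter.isIntegral hch g
  have hidx : ∀ g : ↥Cfsg.M24, ∀ c m : ℕ, c ∣ Nat.card (Subgroup.centralizer ({g} : Set ↥Cfsg.M24)) →
      244823040 = c * m → (Subgroup.centralizer ({g} : Set ↥Cfsg.M24)).index ∣ m := by
    intro g c m hc hm
    obtain ⟨j, hj⟩ := hc
    have h := Subgroup.index_mul_card (Subgroup.centralizer ({g} : Set ↥Cfsg.M24))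
    rw [Golay.natCard_M24, hj, hm] at h
    refine ⟨j, ?_⟩
    have hc0 : c ≠ 0 := by rintro rfl; norm_num at hm
    exact (Nat.eq_of_mul_eq_mul_left (Nat.pos_of_ne_zero hc0) (by rw [← h]; ring)).symm
  have h7int : ∀ g : ↥Cfsg.M24, orderOf g = 7 → IsIntegral ℤ ((χ : ↥Cfsg.M24 → ℂ) g / (2 : ℕ)) := fun g hg =>
    isIntegral_div_of_class hχ hd (e := 512) (o := 11385) (k := k) (by ring)
      (hidx g 42 _ (cent_seven hg).symm.dvd (by norm_num))
      (by simp [hkpos]) (by norm_num)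
  have h5int : ∀ g : ↥Cfsg.M24, orderOf g = 5 → IsIntegral ℤ ((χ : ↥Cfsg.M24 → ℂ) g / (4 : ℕ)) := fun g hg =>
    isIntegral_div_of_class hχ hd (e := 256) (o := 239085) (k := k) (by ring)
      (hidx g 4 _ (four_dvd_cent_five hg) (by norm_num)) (by simp [hkpos]) (by norm_num)
  have lower : ∀ {p n b : ℕ} {S : ℝ}, n ≤ Nat.card (Sylow p ↥Cfsg.M24) →
      ((Nat.card (Sylow p ↥Cfsg.M24) * b : ℕ) : ℝ) ≤ S → (n : ℝ) * b ≤ S := fun {p n b S} hn hS => by
    refine le_trans ?_ hS
    push_cast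
    exact mul_le_mul_of_nonneg_right (by exact_mod_cast hn) (by positivity)
  have b23 := fun r hr hmod => lower sylow_twentythree (le_sum_filter (p := 23) (hp 23 (by simp)).1
    (hp 23 (by simp)).2 hch hd (a := 1) (r := r) hr one_ne_zero (by norm_num) (hint 23) hmod)
  have b11 := fun r hr hmod => lower sylow_eleven (le_sum_filter (p := 11) (hp 11 (by simp)).1
    (hp 11 (by simp)).2 hch hd (a := 1) (r := r) hr one_ne_zero (by norm_num) (hint 11) hmod)
  have b7 := fun r hr hmod => lower sylow_seven (le_sum_filter (p := 7) (hp 7 (by simp)).1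
    (hp 7 (by simp)).2 hch hd (a := 2) (r := r) hr two_ne_zero (by norm_num) h7int hmod)
  have b5 := fun r hr hmod => lower sylow_five (le_sum_filter (p := 5) (hp 5 (by simp)).1
    (hp 5 (by simp)).2 hch hd (a := 4) (r := r) hr four_ne_zero (by norm_num) h5int hmod)
  have hk15 : k ≤ 15 := by
    by_contra h
    have h16 : (16 : ℝ) ≤ (k : ℝ) := by exact_mod_cast (by omega : 16 ≤ k)
    have hs : ∀ n, 0 ≤ ∑ g ∈ Finset.univ.filter (fun g : ↥Cfsg.M24 => orderOf g = n),
        ‖(χ : ↥Cfsg.M24 → ℂ) g‖ ^ 2 := fun n => Finset.sum_nonneg fun g _ => hnn g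
    have h2 : (16 : ℝ) ^ 2 ≤ (k : ℝ) ^ 2 := pow_le_pow_left₀ (by norm_num) h16 2
    nlinarith [hs 5, hs 7, hs 11, hs 23]
  interval_cases k <;> norm_num at hk0
  · have e1 := b23 12 (by norm_num) (by norm_num)
    have e2 := b11 1 (by norm_num) (by norm_num)
    have e3 := b7 1 (by norm_num) (by norm_num)
    have e4 := b5 1 (by norm_num) (by norm_num)
    norm_num at e1 e2 e3 e4 hle
    linarith
  · have e1 := b23 13 (by norm_num) (by norm_num)
    have e2 := b11 3 (by norm_num) (by norm_num)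
    have e3 := b7 3 (by norm_num) (by norm_num)
    have e4 := b5 3 (by norm_num) (by norm_num)
    norm_num at e1 e2 e3 e4 hle
    linarith
  · have e1 := b23 14 (by norm_num) (by norm_num)
    have e2 := b11 5 (by norm_num) (by norm_num)
    have e3 := b7 5 (by norm_num) (by norm_num)
    have e4 := b5 0 (by norm_num) (by norm_num)
    norm_num at e1 e2 e3 e4 hle
    linarith
  · have e1 := b23 15 (by norm_num) (by norm_num)
    have e2 := b11 7 (by norm_num) (by norm_num)
    have e3 := b7 0 (by norm_num) (by norm_num)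
    have e4 := b5 2 (by norm_num) (by norm_num)
    norm_num at e1 e2 e3 e4 hle
    linarith
  · have e1 := b23 16 (by norm_num) (by norm_num)
    have e2 := b11 9 (by norm_num) (by norm_num)
    have e3 := b7 2 (by norm_num) (by norm_num)
    have e4 := b5 4 (by norm_num) (by norm_num)
    norm_num at e1 e2 e3 e4 hle
    linarith
  · have e1 := b23 17 (by norm_num) (by norm_num)
    have e2 := b11 0 (by norm_num) (by norm_num)
    have e3 := b7 4 (by norm_num) (by norm_num)
    have e4 := b5 1 (by norm_num) (by norm_num)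
    norm_num at e1 e2 e3 e4 hle
    linarith
  · have e1 := b23 19 (by norm_num) (by norm_num)
    have e2 := b11 4 (by norm_num) (by norm_num)
    have e3 := b7 1 (by norm_num) (by norm_num)
    have e4 := b5 0 (by norm_num) (by norm_num)
    norm_num at e1 e2 e3 e4 hle
    linarith

theorem sameBlock_m24 {M : Ideal AlgInt} (hM : IsPModular 2 M) (χ ψ : IrrCharacter ↥Cfsg.M24) :
    SameBlock M (χ : ↥Cfsg.M24 → ℂ) (ψ : ↥Cfsg.M24 → ℂ) := by
  refine sameBlock_of_local hM (fun x hx => ?_) (fun χ => ?_) χ ψ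
  · by_cases h0 : ∀ p, (x : Equiv.Perm GolayPt) p ≠ p
    · exact sameBlock_free hx h0 hM
    · push Not at h0
      obtain ⟨p, hp⟩ := h0
      obtain ⟨o, ho, hxo, hfix⟩ := exists_octad_fixed x.2 (by rw [Subgroup.orderOf_coe, hx]) hp
      exact sameBlock_octad (K := Cfsg.M24) le_rfl ho (fun g hg => (mem_octadFix.1 hg).1) hxo hfix hM
  · refine factorization_lt (e := 10) Nat.prime_two (Blocks.charDegree_pos χ).ne' ?_ (not_dvd_degree24 χ)
    rw [Golay.natCard_M24, show 244823040 = 2 ^ 10 * 239085 by norm_num,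
      Nat.factorization_mul (by norm_num) (by norm_num), Finsupp.add_apply,
      Nat.Prime.factorization_pow Nat.prime_two,
      Nat.factorization_eq_zero_of_not_dvd (by norm_num : ¬ 2 ∣ 239085)]
    simp

end Cfsg.Agent.SingleBlock
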