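/-
Values of a character on a subgroup of prime order.

* `sq_le` : integers congruent modulo `a` with prescribed sum have a large sum of squares
* `le_sum_sq` : `d ^ 2 + a ^ 2 * r * (p - r) ≤ ∑_{x ∈ P} |χ x| ^ 2`
* `sum_eq_of_minimal` : the extremal case
* `sum_orderOf_eq` : a sum over the elements of order `p`, subgroup by subgroup
-/
import Cfsg.Agent.Lib.Char.Orth
import Cfsg.Agent.Lib.Char.Linear
import Cfsg.Agent.Lib.Char.Integral
import Cfsg.Agent.Lib.Char.Virtual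

set_option autoImplicit false

open scoped ComplexConjugate
open Cfsg

namespace Cfsg.Agent.SingleBlock

/-! ### The arithmetic -/

theorem near_eq {ι : Type*} [Fintype ι] (n : ι → ℤ) {p r q : ℤ} (hp : (Fintype.card ι : ℤ) = p)
    (hD : ∑ i, n i = p * q + r) :
    p * ∑ i, n i ^ 2 - (∑ i, n i) ^ 2 = r * (p - r) + p * ∑ i, (n i - q) * (n i - q - 1) := by
  have e : ∑ i, (n i - q) * (n i - q - 1) =
      ∑ i, n i ^ 2 - (2 * q + 1) * (∑ i, n i) + p * (q * (q + 1)) := by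
    rw [← hp, Finset.mul_sum, show (Fintype.card ι : ℤ) * (q * (q + 1)) = ∑ _i : ι, q * (q + 1) by
      rw [Finset.sum_const, Finset.card_univ, nsmul_eq_mul], ← Finset.sum_sub_distrib,
      ← Finset.sum_add_distrib]
    exact Finset.sum_congr rfl fun i _ => by ring
  rw [e, hD]
  ring

theorem mul_pred_nonneg (k : ℤ) : 0 ≤ k * (k - 1) := by
  rcases le_or_gt k 0 with h | h
  · nlinarith
  · nlinarith

theorem sq_le {ι : Type*} [Fintype ι] (m : ι → ℤ) {p a r : ℕ} (hp : Fintype.card ι = p)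
    (ha : a ≠ 0) (hcop : a.Coprime p) (hm : ∀ i j, (a : ℤ) ∣ m i - m j)
    (hmod : (∑ i, m i) ≡ (a * r : ℕ) [ZMOD p]) :
    (a : ℤ) ^ 2 * (r * ((p : ℤ) - r)) ≤ p * ∑ i, m i ^ 2 - (∑ i, m i) ^ 2 := by
  rcases isEmpty_or_nonempty ι with h | ⟨⟨i₀⟩⟩
  · have h0 : p = 0 := by rw [← hp, Fintype.card_eq_zero]
    subst h0
    simp only [Finset.univ_eq_empty, Finset.sum_empty, Nat.cast_zero, zero_sub, zero_mul]
    nlinarith [mul_nonneg (sq_nonneg (a : ℤ)) (sq_nonneg (r : ℤ))]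
  choose n hn using fun i => hm i i₀
  have hmi : ∀ i, m i = m i₀ + a * n i := fun i => by rw [← hn]; ring
  have hsum : ∑ i, m i = p * m i₀ + a * ∑ i, n i := by
    rw [Finset.sum_congr rfl fun i _ => hmi i, Finset.sum_add_distrib, Finset.sum_const,
      Finset.card_univ, hp, nsmul_eq_mul, ← Finset.mul_sum]
  have hr : (p : ℤ) ∣ ∑ i, n i - r := by
    rw [hsum] at hmod
    have h1 : (p : ℤ) ∣ (a : ℤ) * (∑ i, n i - r) := by
      obtain ⟨k, hk⟩ := hmod.dvd
      refine ⟨-k - m i₀, ?_⟩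
      push_cast at hk
      linear_combination -hk
    exact (Int.isCoprime_iff_nat_coprime.2 (by simpa using hcop.symm)).dvd_of_dvd_mul_left h1
  obtain ⟨q, hq⟩ := hr
  have hD : ∑ i, n i = p * q + r := by linear_combination hq
  have h := near_eq n (p := p) (by exact_mod_cast hp) hD
  have hnn : 0 ≤ (p : ℤ) * ∑ i, (n i - q) * (n i - q - 1) :=
    mul_nonneg (by positivity) (Finset.sum_nonneg fun i _ => mul_pred_nonneg _)
  have e : (p : ℤ) * ∑ i, m i ^ 2 - (∑ i, m i) ^ 2 =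
      (a : ℤ) ^ 2 * (p * ∑ i, n i ^ 2 - (∑ i, n i) ^ 2) := by
    have e1 : ∑ i, m i ^ 2 = p * m i₀ ^ 2 + 2 * m i₀ * a * (∑ i, n i) + a ^ 2 * ∑ i, n i ^ 2 := by
      rw [Finset.sum_congr rfl fun i _ =>
          show m i ^ 2 = m i₀ ^ 2 + 2 * m i₀ * a * n i + a ^ 2 * n i ^ 2 by rw [hmi]; ring,
        Finset.sum_add_distrib, Finset.sum_add_distrib, Finset.sum_const, Finset.card_univ, hp,
        nsmul_eq_mul, ← Finset.mul_sum, ← Finset.mul_sum]
    rw [e1, hsum]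
    ring
  rw [e, h]
  exact mul_le_mul_of_nonneg_left (le_add_of_nonneg_right hnn) (sq_nonneg _)

/-! ### Subgroups of prime order -/

variable {G : Type*} [Group G]

theorem exists_mults {p : ℕ} [hp : Fact p.Prime] (P : Subgroup G) [Fintype P]
    (hP : Nat.card P = p) {χ : G → ℂ} (hχ : IsCharacter G χ) {d : ℕ} (hd : χ 1 = d)
    [Fintype (IrrCharacter P)] :
    ∃ m : IrrCharacter P → ℕ, Fintype.card (IrrCharacter P) = p ∧ ∑ φ, m φ = d ∧
      (∑ x : P, ‖χ x‖ ^ 2) = (p : ℝ) * ∑ φ, (m φ : ℝ) ^ 2 ∧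
      ∀ φ : IrrCharacter P, (p : ℂ) * m φ = ∑ x : P, χ x * conj ((φ : P → ℂ) x) := by
  have hcomm : ∀ a b : P, a * b = b * a := by
    haveI := isCyclic_of_prime_card hP
    exact fun a b => (IsCyclic.commGroup (α := P)).mul_comm a b
  have hres := Char.IsCharacter.restrict hχ P
  obtain ⟨m, he, hm⟩ := Char.IsCharacter.decompose hres
  refine ⟨m, ?_, ?_, ?_, fun φ => ?_⟩
  · rw [← Nat.card_eq_fintype_card, Char.card_irr_eq_card_conjClasses,
      Char.card_conjClasses_of_comm hcomm, hP]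
  · have h1 := congrFun he 1
    simp only [Finset.sum_apply, Pi.smul_apply, smul_eq_mul,
      Char.apply_one_eq_one_of_comm hcomm, mul_one, OneMemClass.coe_one, hd] at h1
    exact_mod_cast h1.symm
  · have h1 := Char.classInner_eq_sum (Char.IsCharacter.isClassFunction hres) (fun x : P => χ x)
    simp only [hm, Complex.conj_natCast] at h1
    have h2 : ((∑ x : P, ‖χ x‖ ^ 2 : ℝ) : ℂ) = ∑ x : P, χ x * conj (χ x) := by
      push_cast
      exact Finset.sum_congr rfl fun x _ => (Complex.mul_conj' _).symm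
    have h3 := Char.card_mul_classInner (fun x : P => χ x) (fun x : P => χ x)
    rw [h1, hP, ← h2] at h3
    have h4 : (((p : ℝ) * ∑ φ, (m φ : ℝ) ^ 2 : ℝ) : ℂ) = ((∑ x : P, ‖χ x‖ ^ 2 : ℝ) : ℂ) := by
      rw [← h3]; push_cast; simp only [sq]
    exact (Complex.ofReal_injective h4).symm
  · rw [← hm φ, ← Char.card_mul_classInner, hP]

variable {p : ℕ} [hp : Fact p.Prime]

theorem dvd_sub_mults (P : Subgroup G) [Fintype P] (hP : Nat.card P = p) {χ : G → ℂ}
    {a : ℕ} (ha : a ≠ 0) (hcop : a.Coprime p)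
    (hdiv : ∀ x : P, x ≠ 1 → IsIntegral ℤ (χ x / a)) [Fintype (IrrCharacter P)]
    {m : IrrCharacter P → ℕ}
    (hm : ∀ φ : IrrCharacter P, (p : ℂ) * m φ = ∑ x : P, χ x * conj ((φ : P → ℂ) x))
    (φ ψ : IrrCharacter P) : (a : ℤ) ∣ (m φ : ℤ) - m ψ := by
  have hcomm : ∀ a b : P, a * b = b * a := by
    haveI := isCyclic_of_prime_card hP
    exact fun a b => (IsCyclic.commGroup (α := P)).mul_comm a b
  have hint : IsIntegral ℤ ((p : ℂ) * ((m φ : ℂ) - m ψ) / a) := by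
    rw [mul_sub, hm, hm, ← Finset.sum_sub_distrib, Finset.sum_div]
    refine IsIntegral.sum _ fun x _ => ?_
    by_cases hx : x = 1
    · subst hx
      rw [Char.apply_one_eq_one_of_comm hcomm, Char.apply_one_eq_one_of_comm hcomm, sub_self,
        zero_div]
      exact isIntegral_zero
    · rw [← mul_sub, mul_div_right_comm]
      have hi : ∀ η : IrrCharacter P, IsIntegral ℤ (conj ((η : P → ℂ) x)) := fun η => by
        rw [← Char.IsCharacter.apply_inv (Char.IsIrrCharacter.isCharacter η.2)]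
        exact Char.IsCharacter.isIntegral (Char.IsIrrCharacter.isCharacter η.2) _
      exact (hdiv x hx).mul ((hi φ).sub (hi ψ))
  have h2 : ((p : ℂ) * ((m φ : ℂ) - m ψ) / a) = (((p : ℤ) * ((m φ : ℤ) - m ψ) : ℤ) : ℚ) / (a : ℚ) := by
    push_cast; ring
  rw [h2] at hint
  have h3 : IsIntegral ℤ ((((p : ℤ) * ((m φ : ℤ) - m ψ) : ℤ) : ℚ) / (a : ℚ)) :=
    (isIntegral_algebraMap_iff (algebraMap ℚ ℂ).injective).1 (by simpa using hint)
  obtain ⟨k, hk⟩ := IsIntegrallyClosed.isIntegral_iff.1 h3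
  have ha' : (a : ℚ) ≠ 0 := by exact_mod_cast ha
  rw [eq_div_iff ha'] at hk
  have hk' : ((k * (a : ℤ) : ℤ) : ℚ) = (((p : ℤ) * ((m φ : ℤ) - (m ψ : ℤ)) : ℤ) : ℚ) := by
    push_cast
    simpa using hk
  replace hk' := Int.cast_injective hk'
  exact ((Int.isCoprime_iff_nat_coprime (a := (a : ℤ)) (b := (p : ℤ))).2
    (by simpa using hcop)).dvd_of_dvd_mul_left
    ⟨k, by rw [← hk']; ring⟩

theorem le_sum_sq (P : Subgroup G) [Fintype P] (hP : Nat.card P = p) {χ : G → ℂ}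
    (hχ : IsCharacter G χ) {d : ℕ} (hd : χ 1 = d) {a r : ℕ} (hr : r ≤ p)
    (ha : a ≠ 0) (hcop : a.Coprime p) (hdiv : ∀ x : P, x ≠ 1 → IsIntegral ℤ (χ x / a))
    (hmod : d % p = a * r % p) :
    (d : ℝ) ^ 2 + ((a ^ 2 * (r * (p - r)) : ℕ) : ℝ) ≤ ∑ x : P, ‖χ x‖ ^ 2 := by
  classical
  have := Fintype.ofFinite (IrrCharacter P)
  obtain ⟨m, hc, hsum, hsq, hm⟩ := exists_mults P hP hχ hd
  have h := sq_le (fun φ => (m φ : ℤ)) hc ha hcop (dvd_sub_mults P hP ha hcop hdiv hm) (r := r)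
    (by
      rw [← Nat.cast_sum, hsum]
      exact Int.natCast_modEq_iff.2 hmod)
  rw [← Nat.cast_sum, hsum] at h
  have h' : ((a ^ 2 * (r * (p - r)) : ℕ) : ℤ) + (d : ℤ) ^ 2 ≤ p * ∑ φ, (m φ : ℤ) ^ 2 := by
    push_cast [Nat.cast_sub hr]
    linarith
  have h'' : (((a ^ 2 * (r * (p - r)) : ℕ) : ℤ) : ℝ) + ((d : ℤ) : ℝ) ^ 2 ≤
      (p : ℝ) * ∑ φ, ((m φ : ℤ) : ℝ) ^ 2 := by exact_mod_cast h'
  rw [hsq]
  simp only [Int.cast_natCast] at h''
  linarith

/-- If the lower bound is attained for `d ≡ -1` the sum of the values is `p * q` or `p * (q + 1)`. -/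
theorem sum_eq_of_minimal (P : Subgroup G) [Fintype P] (hP : Nat.card P = p) {χ : G → ℂ}
    (hχ : IsCharacter G χ) {d q : ℕ} (hd : χ 1 = d) (hq : d + 1 = p * (q + 1))
    (hmin : (∑ x : P, ‖χ x‖ ^ 2) ≤ (d : ℝ) ^ 2 + ((p - 1 : ℕ) : ℝ)) :
    (∑ x : P, χ x) = ((p * q : ℕ) : ℂ) ∨ (∑ x : P, χ x) = ((p * (q + 1) : ℕ) : ℂ) := by
  classical
  have := Fintype.ofFinite (IrrCharacter P)
  obtain ⟨m, hc, hsum, hsq, hm⟩ := exists_mults P hP hχ hd
  rw [hsq] at hmin
  have hpos := hp.out.one_lt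
  have hmin' : (p : ℤ) * ∑ φ, (m φ : ℤ) ^ 2 ≤ (d : ℤ) ^ 2 + ((p : ℤ) - 1) := by
    have : ((p * ∑ φ, m φ ^ 2 : ℕ) : ℝ) ≤ ((d ^ 2 + (p - 1) : ℕ) : ℝ) := by
      push_cast
      exact hmin
    have h2 : p * ∑ φ, m φ ^ 2 ≤ d ^ 2 + (p - 1) := by exact_mod_cast this
    have h3 : ((p * ∑ φ, m φ ^ 2 : ℕ) : ℤ) ≤ ((d ^ 2 + (p - 1) : ℕ) : ℤ) := Int.ofNat_le.2 h2
    push_cast [Nat.cast_sub hpos.le] at h3
    exact h3
  have hdq : (d : ℤ) = p * q + (p - 1) := by
    have : ((d + 1 : ℕ) : ℤ) = ((p * (q + 1) : ℕ) : ℤ) := by rw [hq]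
    push_cast at this
    linarith
  have h := near_eq (fun φ => (m φ : ℤ)) (p := p) (by exact_mod_cast hc) (q := q) (r := (p : ℤ) - 1)
    (by rw [← Nat.cast_sum, hsum, hdq])
  rw [← Nat.cast_sum, hsum] at h
  have hzero : ∑ φ, ((m φ : ℤ) - q) * ((m φ : ℤ) - q - 1) = 0 := by
    have h0 : 0 ≤ ∑ φ, ((m φ : ℤ) - q) * ((m φ : ℤ) - q - 1) :=
      Finset.sum_nonneg fun i _ => mul_pred_nonneg _
    nlinarith
  have hval := (Finset.sum_eq_zero_iff_of_nonneg fun i _ => mul_pred_nonneg _).1 hzero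
    ⟨_, Char.isIrrCharacter_one⟩ (Finset.mem_univ _)
  have hone := hm ⟨_, Char.isIrrCharacter_one⟩
  simp only [Pi.one_apply, map_one, mul_one] at hone
  rw [← hone]
  rcases mul_eq_zero.1 hval with h1 | h1
  · exact Or.inl (by rw [show m ⟨_, Char.isIrrCharacter_one⟩ = q by omega, Nat.cast_mul])
  · exact Or.inr (by rw [show m ⟨_, Char.isIrrCharacter_one⟩ = q + 1 by omega, Nat.cast_mul])

/-! ### The elements of order `p` -/

theorem sum_orderOf_eq [Fintype G] [DecidableEq G] {M : Type*} [AddCommMonoid M]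
    (hp1 : p ∣ Nat.card G) (hp2 : ¬ p ^ 2 ∣ Nat.card G) [Fintype (Sylow p G)]
    [∀ P : Sylow p G, Fintype ↥(P : Subgroup G)] (f : G → M) :
    ∑ g ∈ Finset.univ.filter (fun g : G => orderOf g = p), f g =
      ∑ P : Sylow p G, ∑ x ∈ Finset.univ.erase (1 : ↥(P : Subgroup G)), f x := by
  have hcard : ∀ P : Sylow p G, Nat.card (P : Subgroup G) = p := fun P => by
    have h0 : Nat.card G ≠ 0 := Nat.card_pos.ne'
    have h1 := (hp.out.dvd_iff_one_le_factorization h0).1 hp1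
    have h2 : (Nat.card G).factorization p = 1 := by
      by_contra hne
      exact hp2 ((hp.out.pow_dvd_iff_le_factorization h0).2 (by omega))
    rw [P.card_eq_multiplicity, h2, pow_one]
  rw [Finset.sum_sigma']
  symm
  refine Finset.sum_bij (fun a _ => ((a.2 : ↥(a.1 : Subgroup G)) : G)) ?_ ?_ ?_ fun a _ => rfl
  · rintro ⟨P, x⟩ hx
    simp only [Finset.mem_sigma, Finset.mem_univ, Finset.mem_erase, and_true, true_and] at hx
    simp only [Finset.mem_filter, Finset.mem_univ, true_and, Subgroup.orderOf_coe]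
    have h := orderOf_dvd_natCard x
    rw [hcard] at h
    exact (hp.out.eq_one_or_self_of_dvd _ h).resolve_left fun h1 => hx (orderOf_eq_one_iff.1 h1)
  · rintro ⟨P, x⟩ hx ⟨Q, y⟩ _ h
    simp only [Finset.mem_sigma, Finset.mem_univ, Finset.mem_erase, and_true, true_and] at hx h
    have gen : ∀ (R : Sylow p G) (z : G), z ∈ (R : Subgroup G) → z ≠ 1 →
        Subgroup.zpowers z = (R : Subgroup G) := fun R z hz hz1 => by
      refine Subgroup.eq_of_le_of_card_ge (Subgroup.zpowers_le.2 hz) ?_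
      rw [hcard, Nat.card_zpowers]
      have h := orderOf_dvd_natCard (⟨z, hz⟩ : (R : Subgroup G))
      rw [hcard, Subgroup.orderOf_mk] at h
      rcases hp.out.eq_one_or_self_of_dvd _ h with h1 | h1
      · exact absurd (orderOf_eq_one_iff.1 h1) hz1
      · exact h1.ge
    have hne : (x : G) ≠ 1 := fun e => hx (Subtype.ext e)
    obtain rfl : P = Q := Sylow.ext ((gen P x x.2 hne).symm.trans
      (gen Q x (h ▸ y.2) hne))
    rw [Subtype.ext h]
  · intro g hg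
    simp only [Finset.mem_filter, Finset.mem_univ, true_and] at hg
    obtain ⟨P, hP⟩ := IsPGroup.exists_le_sylow
      (IsPGroup.of_card (p := p) (n := 1) (G := Subgroup.zpowers g) (by rw [Nat.card_zpowers, hg, pow_one]))
    refine ⟨⟨P, ⟨g, hP (Subgroup.mem_zpowers g)⟩⟩, ?_, rfl⟩
    simp only [Finset.mem_sigma, Finset.mem_univ, Finset.mem_erase, and_true, true_and]
    intro e
    rw [show g = 1 from congrArg Subtype.val e, orderOf_one] at hg
    exact hp.out.ne_one hg.symm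

end Cfsg.Agent.SingleBlock
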